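import Cfsg.Agent.Lib.ElusiveU.Geo
import Cfsg.Agent.Lib.PrimeOrderElt.Unipotent
/-
Elements of order `p` of hermitian spaces through skew nilpotent maps.
* `exists_skew_of_isom`, `exists_isom_of_skew`
* `exists_decomp`      : every sub-multiset of the Jordan type is realised non-degenerately
* `exists_skew_model`  : every type occurs
-/

set_option autoImplicit false
set_option linter.unusedSectionVars false
set_option linter.style.haveILetI false

namespace Cfsg.Agent.ElusiveU

open Module
open Cfsg.Agent.Unitary (IsHerm Nondeg Orthonormal)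
open Cfsg.Agent.PrimeOrderElt (Inv inv_apply inv_inf inv_sup rk rk_add rk_cons exists_jordan exists_le_of_rk_pos
  map_top_pow map_pow_le finrank_submodule_prod add_one_pow_char finrank_map_pow_sup finrank_sup_of_inf_eq_bot)

variable {F : Type*} [Field F] {V : Type*} [AddCommGroup V] [Module F V] {q : ℕ} {h : V → V → F}

/-- Skew adjointness. -/
def Skew (h : V → V → F) (N : Module.End F V) : Prop := ∀ u v, h (N u) v = -h u (N v)

theorem Skew.pow {N : Module.End F V} (hN : Skew h N) :
    ∀ (e : ℕ) (u v : V), h u ((N ^ e) v) = (-1 : F) ^ e * h ((N ^ e) u) v := by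
  intro e
  induction e with
  | zero => intro u v; simp
  | succ e ih =>
    intro u v
    rw [pow_succ' N e, Module.End.mul_apply, ← neg_neg (h u (N ((N ^ e) v))), ← hN, ih, ← pow_succ' N e,
      pow_succ N e, Module.End.mul_apply, pow_succ (-1 : F) e]
    ring

section Fin

variable [Fintype F] [FiniteDimensional F V] (hF : Fintype.card F = q ^ 2) (H : IsHerm q h)
  {N : Module.End F V}

include hF in
theorem Skew.inv_orth (hN : Skew h N) {S : Submodule F V} (hS : Inv N S) : Inv N (orth H S) := by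
  rintro _ ⟨v, hv, rfl⟩ s hs
  rw [hN, hv _ (inv_apply hS hs), neg_zero]

include hF H in
/-- A block of greatest size with non-degenerate pairing. -/
theorem exists_block (hN : Skew h N) {X : Submodule F V} (hXi : Inv N X) (hX : NdOn h X) (hX0 : X ≠ ⊥)
    {p : ℕ} (hp : ∀ v ∈ X, (N ^ p) v = 0) :
    ∃ (k : ℕ) (Y : Submodule F V), 0 < k ∧ k ≤ p ∧ Y ≤ X ∧ Inv N Y ∧ NdOn h Y ∧ finrank F Y = k ∧
      ∀ j, finrank F ↥(Y.map (N ^ j)) = k - j := by
  classical
  have hex : ∃ k, ∀ v ∈ X, (N ^ k) v = 0 := ⟨p, hp⟩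
  set k := Nat.find hex
  have hkN : ∀ v ∈ X, (N ^ k) v = 0 := Nat.find_spec hex
  have hkp : k ≤ p := Nat.find_min' hex hp
  have hk : 0 < k := by
    rcases Nat.eq_zero_or_pos k with h0 | h0
    · exact absurd (le_bot_iff.1 fun v hv => by simpa [h0] using hkN v hv) hX0
    · exact h0
  have hpX : ∀ (j : ℕ), ∀ w ∈ X, (N ^ j) w ∈ X := fun j w hw => map_pow_le hXi j ⟨w, hw, rfl⟩
  obtain ⟨v, hv, hvv⟩ : ∃ v ∈ X, h ((N ^ (k - 1)) v) v ≠ 0 := by
    by_contra hno
    push Not at hno
    -- a sesquilinear form with zero diagonal vanishes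
    have hzero : ∀ u ∈ X, ∀ w ∈ X, h ((N ^ (k - 1)) u) w = 0 := by
      intro u hu w hw
      have key : ∀ c : F, c * h ((N ^ (k - 1)) u) w + c ^ q * h ((N ^ (k - 1)) w) u = 0 := by
        intro c
        have h1 := hno (c • u + w) (X.add_mem (X.smul_mem c hu) hw)
        rw [map_add, map_smul, H.add_left, H.add_right hF, H.add_right hF, H.smul_left, H.smul_left,
          H.smul_right, H.smul_right, hno u hu, hno w hw] at h1
        linear_combination h1
      obtain ⟨c, hc⟩ : ∃ c : F, c ^ q ≠ c := by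
        by_contra hall
        push Not at hall
        have h1 := Unitary.card_fixed hF
        rw [Nat.card_congr (Equiv.subtypeUnivEquiv hall), Nat.card_eq_fintype_card, hF] at h1
        have h2 := Unitary.two_le_q hF
        nlinarith
      have h1 := key 1
      rw [one_mul, one_pow, one_mul] at h1
      exact (mul_eq_zero.1 (show (c - c ^ q) * h ((N ^ (k - 1)) u) w = 0 by
        linear_combination key c - c ^ q * h1)).resolve_left (sub_ne_zero.2 (Ne.symm hc))
    exact Nat.find_min hex (m := k - 1) (by omega) fun u hu =>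
      hX _ (hpX _ u hu) fun w hw => hzero u hu w hw
  have hhigh : ∀ e, k ≤ e → (N ^ e) v = 0 := fun e he => by
    rw [show e = (e - k) + k by omega, pow_add, Module.End.mul_apply, hkN v hv, map_zero]
  let w : Fin k → V := fun j => (N ^ (j : ℕ)) v
  have hsep : ∀ c : Fin k → F, (∀ e, h (∑ j, c j • w j) ((N ^ e) v) = 0) → c = 0 := by
    intro c hc
    by_contra hne
    have hex' : ∃ j : ℕ, ∃ hj : j < k, c ⟨j, hj⟩ ≠ 0 := by
      by_contra hall
      push Not at hall
      exact hne (funext fun j => hall j j.2)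
    obtain ⟨hj0, hcj⟩ := Nat.find_spec hex'
    set j0 := Nat.find hex'
    have h1 := hc (k - 1 - j0)
    rw [hN.pow, mul_eq_zero] at h1
    have h2 := h1.resolve_left (pow_ne_zero _ (neg_ne_zero.2 one_ne_zero))
    rw [map_sum, H.sum_left, Finset.sum_eq_single ⟨j0, hj0⟩ ?_ (fun h => absurd (Finset.mem_univ _) h)] at h2
    · rw [map_smul, H.smul_left, mul_eq_zero] at h2
      refine hvv ?_
      have := h2.resolve_left hcj
      rwa [show (N ^ (k - 1 - j0)) (w ⟨j0, hj0⟩) = (N ^ (k - 1)) v by
        show (N ^ (k - 1 - j0)) ((N ^ j0) v) = _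
        rw [← Module.End.mul_apply, ← pow_add, Nat.sub_add_cancel (by omega)]] at this
    · intro j _ hj
      rw [map_smul, H.smul_left]
      rcases lt_trichotomy (j : ℕ) j0 with hlt | heq | hgt
      · have h3 := Nat.find_min hex' hlt
        push Not at h3
        rw [h3 j.2, zero_mul]
      · exact absurd (Fin.ext heq) hj
      · show c j * h ((N ^ (k - 1 - j0)) ((N ^ (j : ℕ)) v)) v = 0
        rw [← Module.End.mul_apply, ← pow_add, hhigh _ (by omega), H.zero_left, mul_zero]
  have hli : LinearIndependent F w := by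
    rw [Fintype.linearIndependent_iff]
    intro g hg j
    exact congrFun (hsep g fun e => by rw [hg, H.zero_left]) j
  set Y := Submodule.span F (Set.range w) with hY
  have hYi : Inv N Y := by
    show Submodule.map N Y ≤ Y
    rw [hY, Submodule.map_span, Submodule.span_le]
    rintro _ ⟨_, ⟨j, rfl⟩, rfl⟩
    show N ((N ^ (j : ℕ)) v) ∈ _
    rw [← Module.End.mul_apply, ← pow_succ']
    by_cases hlt : (j : ℕ) + 1 < k
    · exact Submodule.subset_span ⟨⟨_, hlt⟩, rfl⟩
    · rw [hhigh _ (by omega)]; exact Submodule.zero_mem _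
  have hmem : ∀ e, (N ^ e) v ∈ Y := fun e => by
    refine map_pow_le hYi e ⟨v, Submodule.subset_span ⟨⟨0, hk⟩, ?_⟩, rfl⟩
    simp [w]
  refine ⟨k, Y, hk, hkp, Submodule.span_le.2 (by rintro _ ⟨j, rfl⟩; exact hpX _ v hv), hYi,
    fun x hx hx0 => ?_, (finrank_span_eq_card hli).trans (Fintype.card_fin k), fun j => ?_⟩
  · obtain ⟨c, rfl⟩ := (Submodule.mem_span_range_iff_exists_fun F).1 hx
    rw [hsep c fun e => hx0 _ (hmem e)]
    simp
  · let sh : Fin (k - j) → Fin k := fun i => ⟨(i : ℕ) + j, by omega⟩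
    have hmap : Y.map (N ^ j) = Submodule.span F (Set.range (w ∘ sh)) := by
      rw [hY, Submodule.map_span]
      refine le_antisymm (Submodule.span_le.2 ?_) (Submodule.span_le.2 ?_)
      · rintro _ ⟨_, ⟨i, rfl⟩, rfl⟩
        show (N ^ j) ((N ^ (i : ℕ)) v) ∈ Submodule.span F _
        rw [← Module.End.mul_apply, ← pow_add, Nat.add_comm]
        by_cases hlt : (i : ℕ) + j < k
        · exact Submodule.subset_span ⟨⟨i, by omega⟩, rfl⟩
        · rw [hhigh _ (by omega)]; exact Submodule.zero_mem _
      · rintro _ ⟨i, rfl⟩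
        refine Submodule.subset_span ⟨w ⟨i, by omega⟩, ⟨_, rfl⟩, ?_⟩
        show (N ^ j) ((N ^ (i : ℕ)) v) = (N ^ ((i : ℕ) + j)) v
        rw [← Module.End.mul_apply, ← pow_add, Nat.add_comm]
    rw [hmap, finrank_span_eq_card (hli.comp sh fun a b hab => Fin.ext (by simpa [sh] using hab)),
      Fintype.card_fin]

include hF H in
/-- The Jordan type, with a non-degenerate invariant subspace for each part. -/
theorem exists_decomp (hN : Skew h N) {p : ℕ} :
    ∀ (X : Submodule F V), Inv N X → NdOn h X → (∀ v ∈ X, (N ^ p) v = 0) →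
      ∃ μ : Multiset ℕ, (∀ a ∈ μ, 0 < a ∧ a ≤ p) ∧ μ.sum = finrank F X ∧
        (∀ j, finrank F ↥(X.map (N ^ j)) = rk μ j) ∧
        ∀ ν ≤ μ, ∃ W ≤ X, Inv N W ∧ NdOn h W ∧ finrank F W = ν.sum := by
  classical
  intro X
  induction X using WellFoundedLT.induction with
  | _ X ih =>
    intro hXi hX hp
    by_cases hX0 : X = ⊥
    · subst hX0
      refine ⟨0, by simp, by simp, fun j => ?_, fun ν hν => ?_⟩
      · rw [Submodule.map_bot, finrank_bot]; simp [rk]
      · rw [nonpos_iff_eq_zero.mp hν]
        exact ⟨⊥, bot_le, (Submodule.map_bot N).le, ndOn_bot h, by simp⟩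
    obtain ⟨k, Y, hk, hkp, hYX, hYi, hY, hYd, hYj⟩ := exists_block hF H hN hXi hX hX0 hp
    have hRd := finrank_inf_orth hF H hY hYX
    have hRi : Inv N (X ⊓ orth H Y) := inv_inf hXi (hN.inv_orth hF H hYi)
    have hlt : X ⊓ orth H Y < X := lt_of_le_of_ne inf_le_left fun e => by rw [e] at hRd; omega
    obtain ⟨μ, hμ, hμs, hμr, hμW⟩ := ih _ hlt hRi (ndOn_inf_orth hF H hX hY hYX) fun v hv => hp v hv.1
    refine ⟨k ::ₘ μ, fun a ha => ?_, ?_, fun j => ?_, fun ν hν => ?_⟩
    · rcases Multiset.mem_cons.1 ha with rfl | ha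
      · exact ⟨hk, hkp⟩
      · exact hμ a ha
    · rw [Multiset.sum_cons, hμs]; omega
    · rw [rk_cons, ← hμr, ← hYj]
      conv_lhs => rw [← sup_inf_orth hF H hY hYX]
      exact finrank_map_pow_sup hYi hRi
        (le_bot_iff.1 ((inf_le_inf le_rfl inf_le_right).trans (disjoint_orth hF H hY).le)) j
    · by_cases hkν : k ∈ ν
      · obtain ⟨ν', rfl⟩ := Multiset.exists_cons_of_mem hkν
        obtain ⟨W, hW, hWi, hWn, hWd⟩ := hμW ν' ((Multiset.cons_le_cons_iff k).1 hν)
        have ho : W ≤ orth H Y := fun v hv => (hW hv).2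
        exact ⟨Y ⊔ W, sup_le hYX (hW.trans inf_le_left), inv_sup hYi hWi, (hY.sup hF H hWn ho).1,
          by rw [(hY.sup hF H hWn ho).2, hYd, hWd, Multiset.sum_cons]⟩
      · obtain ⟨W, hW, h'⟩ := hμW ν ((Multiset.le_cons_of_notMem hkν).1 hν)
        exact ⟨W, hW.trans inf_le_left, h'⟩

section Cayley

variable {p : ℕ} [Fact p.Prime] [CharP F p] [Nontrivial V]

include hF H in
/-- The skew nilpotent map of an isometry of order `p`, unique with `N (y + 1) = y - 1` for `p` odd. -/
theorem exists_skew_of_isom {y : Module.End F V} (hy : IsIso h y) (hyp : y ^ p = 1) :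
    ∃ N : Module.End F V, Skew h N ∧ N ^ p = 0 ∧
      (if p = 2 then N = y - 1 else N * (y + 1) = y - 1 ∧ Function.Surjective ⇑(y + 1)) ∧
      ∀ W : Submodule F V, Inv y W ↔ Inv N W := by
  have hN1 : (y - 1) ^ p = 0 := by
    have h := add_one_pow_char (p := p) (y - 1)
    rw [sub_add_cancel, hyp] at h
    exact right_eq_add.1 h
  rcases (Fact.out : p.Prime).eq_two_or_odd' with h2p | hodd
  · refine ⟨y - 1, fun u v => ?_, hN1, by rw [if_pos h2p], fun W => ?_⟩
    · subst h2p
      have hyy : y (y v) = v := by rw [← Module.End.mul_apply, ← pow_two, hyp, Module.End.one_apply]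
      have h1 : h (y u) v = h u (y v) := by
        conv_lhs => rw [← hyy]
        exact hy _ _
      simp only [LinearMap.sub_apply, Module.End.one_apply]
      rw [H.sub_left, H.sub_right hF, h1, CharTwo.neg_eq]
    · have := PrimeOrderElt.inv_sub_smul y (1 : F) W
      rw [one_smul] at this
      exact this.symm
  have h2 : (2 : F) ≠ 0 := fun e => by
    have := (Nat.prime_dvd_prime_iff_eq (Fact.out : p.Prime) Nat.prime_two).1
      ((CharP.cast_eq_zero_iff F p 2).1 (by exact_mod_cast e))
    rw [this] at hodd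
    exact absurd hodd (by decide)
  set E : Module.End F V := (2 : F)⁻¹ • ∑ j ∈ Finset.range p, (-y) ^ j with hE
  have hyE : Commute y E := (Commute.sum_right _ _ _ fun j _ =>
    ((Commute.refl y).neg_right).pow_right j).smul_right _
  have h1E : (y + 1) * E = 1 := by
    rw [hE, mul_smul_comm, show y + 1 = 1 - -y by abel, mul_neg_geom_sum, hodd.neg_pow, hyp,
      show (1 : Module.End F V) - -1 = (2 : F) • 1 by rw [sub_neg_eq_add, two_smul], inv_smul_smul₀ h2]
  have hE1 : E * (y + 1) = 1 := ((hyE.add_left (Commute.one_left E)).eq).symm.trans h1E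
  set N : Module.End F V := (y - 1) * E with hN
  have hNy : N * (y + 1) = y - 1 := by rw [hN, mul_assoc, hE1, mul_one]
  have hsurj : Function.Surjective ⇑(y + 1) := fun v => ⟨E v, by
    rw [← Module.End.mul_apply, h1E, Module.End.one_apply]⟩
  have hskew : Skew h N := fun u v => by
    obtain ⟨a, rfl⟩ := hsurj u
    obtain ⟨b, rfl⟩ := hsurj v
    rw [← Module.End.mul_apply, ← Module.End.mul_apply (f := N) (g := y + 1), hNy]
    simp only [LinearMap.sub_apply, LinearMap.add_apply, Module.End.one_apply, H.add_left, H.sub_left,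
      H.add_right hF, H.sub_right hF, hy a b]
    ring
  have hNp : N ^ p = 0 := by
    rw [hN, ((hyE.sub_left (Commute.one_left E))).mul_pow, hN1, zero_mul]
  refine ⟨N, hskew, hNp, ?_, fun W => ⟨fun hW => ?_, fun hW => ?_⟩⟩
  · rw [if_neg fun e => by rw [e] at hodd; exact absurd hodd (by decide)]
    exact ⟨hNy, hsurj⟩
  · rintro _ ⟨v, hv, rfl⟩
    have hpow : ∀ (j : ℕ), ∀ w ∈ W, ((-y) ^ j) w ∈ W := by
      intro j
      induction j with
      | zero => exact fun w hw => hw
      | succ j ih =>
        intro w hw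
        rw [pow_succ', Module.End.mul_apply, LinearMap.neg_apply]
        exact W.neg_mem (inv_apply hW (ih w hw))
    have hEv : E v ∈ W := by
      rw [hE, LinearMap.smul_apply, LinearMap.sum_apply]
      exact W.smul_mem _ (W.sum_mem fun j _ => hpow j v hv)
    rw [hN, Module.End.mul_apply, LinearMap.sub_apply, Module.End.one_apply]
    exact W.sub_mem (inv_apply hW hEv) hEv
  · have hEN : ∀ v, E v = (2 : F)⁻¹ • (v - N v) := fun v => by
      have hd : v - N v = (2 : F) • E v := by
        have e1 : (y + 1) (E v) = v := by rw [← Module.End.mul_apply, h1E, Module.End.one_apply]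
        rw [hN, Module.End.mul_apply]
        conv_lhs => rw [← e1]
        rw [show E ((y + 1) (E v)) = E v by rw [e1]]
        simp only [LinearMap.sub_apply, LinearMap.add_apply, Module.End.one_apply, two_smul]
        abel
      rw [hd, inv_smul_smul₀ h2]
    have hle : W.map E ≤ W := by
      rintro _ ⟨v, hv, rfl⟩
      rw [hEN]
      exact W.smul_mem _ (W.sub_mem hv (inv_apply hW hv))
    have hinj : Function.Injective E := fun a b hab => by
      have := congrArg (⇑(y + 1)) hab
      simpa only [← Module.End.mul_apply, h1E, Module.End.one_apply] using this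
    have heq : W.map E = W := Submodule.eq_of_le_of_finrank_eq hle
      (Submodule.equivMapOfInjective E hinj W).finrank_eq.symm
    rintro _ ⟨v, hv, rfl⟩
    rw [SetLike.mem_coe, ← heq] at hv
    obtain ⟨w, hw, rfl⟩ := hv
    have e1 : y (E w) + E w = w := by
      have := LinearMap.congr_fun h1E w
      simpa using this
    rw [eq_sub_of_add_eq e1]
    exact W.sub_mem hw (hle ⟨w, hw, rfl⟩)

include hF H in
/-- The isometry of order `p` of a skew nilpotent map. -/
theorem exists_isom_of_skew {N : Module.End F V} (hN : Skew h N) (hNp : N ^ p = 0) (hN0 : N ≠ 0) :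
    ∃ y : Module.End F V, IsIso h y ∧ y ^ p = 1 ∧ y ≠ 1 ∧ ∀ W : Submodule F V, Inv y W → Inv N W := by
  rcases (Fact.out : p.Prime).eq_two_or_odd' with h2p | hodd
  · subst h2p
    refine ⟨1 + N, fun u v => ?_, ?_, fun e => hN0 (add_eq_left.1 e), fun W hW => ?_⟩
    · simp only [LinearMap.add_apply, Module.End.one_apply, H.add_left, H.add_right hF]
      rw [show h (N u) (N v) = 0 by
        rw [hN, ← Module.End.mul_apply, ← pow_two, hNp, LinearMap.zero_apply, H.zero_right hF, neg_zero], hN u v]
      ring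
    · rw [add_comm, add_one_pow_char, hNp, zero_add]
    · have := (PrimeOrderElt.inv_sub_smul (1 + N) (1 : F) W).2 hW
      rwa [one_smul, add_sub_cancel_left] at this
  have hp2 : p ≠ 2 := fun e => by rw [e] at hodd; exact absurd hodd (by decide)
  have h2 : (2 : F) ≠ 0 := fun e => hp2 ((Nat.prime_dvd_prime_iff_eq (Fact.out : p.Prime) Nat.prime_two).1
    ((CharP.cast_eq_zero_iff F p 2).1 (by exact_mod_cast e)))
  set G : Module.End F V := ∑ j ∈ Finset.range p, N ^ j with hG
  have hG1 : (1 - N) * G = 1 := by rw [hG, mul_neg_geom_sum, hNp, sub_zero]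
  have hcG : Commute N G := Commute.sum_right _ _ _ fun j _ => (Commute.refl N).pow_right j
  have hsurj : Function.Surjective ⇑(1 - N) := fun v => ⟨G v, by
    rw [← Module.End.mul_apply, hG1, Module.End.one_apply]⟩
  have hG1' : G * (1 - N) = 1 := (((Commute.one_left G).sub_left hcG).eq).symm.trans hG1
  set y := (1 + N) * G with hy
  have hsub : y - 1 = (2 : F) • (N * G) := by
    rw [hy]
    nth_rewrite 2 [← hG1]
    rw [← sub_mul, two_smul, ← add_mul]
    congr 1
    abel
  have hNy : N * (y + 1) = y - 1 := by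
    rw [hsub, hy]
    nth_rewrite 2 [← hG1]
    rw [← add_mul, show (1 + N) + (1 - N) = (2 : F) • (1 : Module.End F V) by rw [two_smul]; abel,
      smul_mul_assoc, one_mul, mul_smul_comm]
  have hyI : IsIso h y := fun u v => by
    obtain ⟨a, rfl⟩ := hsurj u
    obtain ⟨b, rfl⟩ := hsurj v
    simp only [hy, Module.End.mul_apply, show ∀ w, G ((1 - N) w) = w from fun w => by
      rw [← Module.End.mul_apply, hG1', Module.End.one_apply]]
    simp only [LinearMap.add_apply, LinearMap.sub_apply, Module.End.one_apply, H.add_left, H.sub_left,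
      H.add_right hF, H.sub_right hF, hN a b]
    ring
  have hyp : y ^ p = 1 := by
    have h := add_one_pow_char (p := p) (y - 1)
    rw [sub_add_cancel, hsub] at h
    rw [h, _root_.smul_pow, hcG.mul_pow, hNp, zero_mul, smul_zero, zero_add]
  refine ⟨y, hyI, hyp, fun e => hN0 ?_, ?_⟩
  · rw [e, sub_self] at hsub
    have h3 := congrArg (fun f : Module.End F V => f * (1 - N)) hsub.symm
    simp only [smul_mul_assoc, mul_assoc, hG1', mul_one, zero_mul] at h3
    exact (smul_eq_zero.1 h3).resolve_left h2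
  · obtain ⟨N', -, -, hN', hiff⟩ := exists_skew_of_isom hF H hyI hyp
    rw [if_neg hp2] at hN'
    have : N' = N := LinearMap.ext fun v => by
      obtain ⟨w, rfl⟩ := hN'.2 v
      rw [← Module.End.mul_apply, hN'.1, ← Module.End.mul_apply, hNy]
    subst this
    exact fun W => (hiff W).1

end Cayley

end Fin

section Model

variable {F : Type*} [Field F] {k : ℕ}

/-- Extension by zero. -/
def ext0 (a : Fin k → F) (n : ℕ) : F := if h : n < k then a ⟨n, h⟩ else 0

theorem ext0_add (a b : Fin k → F) (n : ℕ) : ext0 (a + b) n = ext0 a n + ext0 b n := by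
  rw [ext0, ext0, ext0]; split_ifs <;> simp

theorem ext0_smul (c : F) (a : Fin k → F) (n : ℕ) : ext0 (c • a) n = c * ext0 a n := by
  rw [ext0, ext0]; split_ifs <;> simp

theorem ext0_fin (a : Fin k → F) (i : Fin k) : ext0 a i = a i := by rw [ext0, dif_pos i.2]

/-- The hermitian form of a block. -/
def blockForm (q : ℕ) (ε : F) (a b : Fin k → F) : F :=
  ε * ∑ i ∈ Finset.range k, (-1 : F) ^ i * (ext0 a i * ext0 b (k - 1 - i) ^ q)

/-- The shift. -/
def shift (F : Type*) [Field F] (k : ℕ) : Module.End F (Fin k → F) :=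
  LinearMap.pi fun i => if h : (i : ℕ) + 1 < k then LinearMap.proj ⟨(i : ℕ) + 1, h⟩ else 0

theorem ext0_shift (a : Fin k → F) {n : ℕ} (hn : n < k) : ext0 (shift F k a) n = ext0 a (n + 1) := by
  rw [ext0, dif_pos hn, shift, LinearMap.pi_apply, ext0]
  by_cases h : n + 1 < k
  · rw [dif_pos h, dif_pos h]; rfl
  · rw [dif_neg h, dif_neg h]; rfl

theorem shift_pow_apply (j : ℕ) : ∀ (v : Fin k → F) {n : ℕ}, n < k →
    ext0 ((shift F k ^ j) v) n = ext0 v (n + j) := by
  induction j with
  | zero => intro v n _; rfl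
  | succ j ih =>
    intro v n hn
    rw [pow_succ, Module.End.mul_apply, ih _ hn]
    by_cases h : n + j < k
    · rw [ext0_shift v h]; rfl
    · rw [ext0, ext0, dif_neg h, dif_neg (by omega)]

theorem shift_pow_eq_zero {p : ℕ} (hp : k ≤ p) : shift F k ^ p = 0 :=
  LinearMap.ext fun v => funext fun i => by
    rw [← ext0_fin ((shift F k ^ p) v) i, shift_pow_apply p v i.2, ext0, dif_neg (by omega)]; rfl

theorem finrank_range_shift (hk : 0 < k) (j : ℕ) :
    finrank F ↥(LinearMap.range (shift F k ^ j)) = k - j := by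
  obtain ⟨α, hα, hsum, hrk, -⟩ := exists_jordan (N := shift F k) (p := k) (W := ⊤) le_top
    (fun v _ => by rw [shift_pow_eq_zero le_rfl]; rfl)
  rw [finrank_top, Module.finrank_fin_fun] at hsum
  have h1 : 0 < rk α (k - 1) := by
    rw [← hrk, map_top_pow, Nat.pos_iff_ne_zero, Ne, Submodule.finrank_eq_zero, LinearMap.range_eq_bot]
    intro h
    have := congrFun (LinearMap.congr_fun h (fun _ => 1)) ⟨0, hk⟩
    rw [← ext0_fin ((shift F k ^ (k - 1)) _) ⟨0, hk⟩, shift_pow_apply _ _ hk, ext0,
      dif_pos (show 0 + (k - 1) < k by omega)] at this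
    exact one_ne_zero this
  obtain ⟨a, ha, hab⟩ := exists_le_of_rk_pos h1
  obtain ⟨α', rfl⟩ := Multiset.exists_cons_of_mem ha
  rw [Multiset.sum_cons] at hsum
  have hα' : α' = 0 := Multiset.eq_zero_of_forall_notMem fun c hc => by
    have := (hα c (Multiset.mem_cons_of_mem hc)).1
    have := Multiset.le_sum_of_mem hc
    omega
  subst hα'
  rw [Multiset.sum_zero] at hsum
  rw [← map_top_pow, hrk, rk_cons, show a = k by omega]
  simp [rk]

variable [Fintype F] {q : ℕ} (hF : Fintype.card F = q ^ 2)

include hF in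
theorem blockForm_isHerm {ε : F} (hε : ε ^ q = (-1) ^ (k - 1) * ε) : IsHerm q (blockForm (k := k) q ε) where
  add_left x y z := by
    simp only [blockForm, ext0_add, add_mul, mul_add, Finset.sum_add_distrib]
  smul_left c x z := by
    simp only [blockForm, ext0_smul, Finset.mul_sum]
    exact Finset.sum_congr rfl fun i _ => by ring
  conj_symm x y := by
    simp only [blockForm]
    rw [mul_pow, hε, Unitary.sum_pow_q hF, mul_right_comm, mul_comm _ ε]
    congr 1
    rw [Finset.mul_sum, ← Finset.sum_range_reflect]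
    refine Finset.sum_congr rfl fun i hi => ?_
    have hi' := Finset.mem_range.1 hi
    rw [show k - 1 - (k - 1 - i) = i by omega, mul_pow, mul_pow, Unitary.pow_q_pow_q hF,
      ← pow_mul (-1 : F) i q]
    have e : (-1 : F) ^ (i * q) = (-1) ^ i := by
      rw [pow_mul]
      rcases neg_one_pow_eq_or F i with h | h <;> rw [h]
      · exact one_pow q
      · rw [Unitary.neg_pow_q hF, one_pow]
    rw [e, show (-1 : F) ^ (k - 1 - i) = (-1) ^ i * (-1) ^ (k - 1) by
      rw [← pow_add, show i + (k - 1) = (k - 1 - i) + 2 * i by omega, pow_add,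
        Even.neg_one_pow (even_two_mul i), mul_one]]
    ring

include hF in
theorem blockForm_nondeg {ε : F} (hε0 : ε ≠ 0) : Nondeg (blockForm (k := k) q ε) := by
  intro a ha
  funext i
  have h := ha (Pi.single ⟨k - 1 - (i : ℕ), by omega⟩ 1)
  rw [blockForm, Finset.sum_eq_single (i : ℕ) ?_ (fun h0 => absurd (Finset.mem_range.2 i.2) h0)] at h
  · rw [ext0_fin a i, ext0, dif_pos (by omega), Pi.single_eq_same, one_pow, mul_one, mul_eq_zero,
      mul_eq_zero] at h
    exact (h.resolve_left hε0).resolve_left (pow_ne_zero _ (neg_ne_zero.2 one_ne_zero))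
  · intro j hj hji
    have hj' := Finset.mem_range.1 hj
    rw [ext0, ext0, dif_pos hj', dif_pos (show k - 1 - j < k by omega), Pi.single_eq_of_ne,
      Unitary.zero_pow_q hF, mul_zero, mul_zero]
    intro e
    have := congrArg Fin.val e
    simp only at this
    omega

include hF in
theorem blockForm_skew (ε : F) : Skew (blockForm (k := k) q ε) (shift F k) := by
  intro a b
  rw [eq_neg_iff_add_eq_zero, blockForm, blockForm, ← mul_add, mul_eq_zero]
  refine .inr ?_
  have h1 : ∀ i ∈ Finset.range k, (-1 : F) ^ i * (ext0 (shift F k a) i * ext0 b (k - 1 - i) ^ q) =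
      -((-1 : F) ^ (i + 1) * (ext0 a (i + 1) * ext0 b (k - (i + 1)) ^ q)) := fun i hi => by
    rw [ext0_shift a (Finset.mem_range.1 hi), show k - (i + 1) = k - 1 - i by omega, pow_succ]
    ring
  have h2 : ∀ i ∈ Finset.range k, (-1 : F) ^ i * (ext0 a i * ext0 (shift F k b) (k - 1 - i) ^ q) =
      (-1 : F) ^ i * (ext0 a i * ext0 b (k - i) ^ q) := fun i hi => by
    have := Finset.mem_range.1 hi
    rw [ext0_shift b (by omega), show k - 1 - i + 1 = k - i by omega]
  rw [Finset.sum_congr rfl h1, Finset.sum_congr rfl h2, Finset.sum_neg_distrib, neg_add_eq_zero]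
  have key := (Finset.sum_range_succ' (fun i => (-1 : F) ^ i * (ext0 a i * ext0 b (k - i) ^ q)) k).symm.trans
    (Finset.sum_range_succ (fun i => (-1 : F) ^ i * (ext0 a i * ext0 b (k - i) ^ q)) k)
  have hb : ext0 b (k - 0) = 0 := by rw [ext0, dif_neg (by omega)]
  have ha : ext0 a k = 0 := by rw [ext0, dif_neg (by omega)]
  simp only [hb, ha, Unitary.zero_pow_q hF, mul_zero, zero_mul, add_zero] at key
  exact key

include hF in
/-- Every type occurs. -/
theorem exists_skew_model {p : ℕ} : ∀ μ : Multiset ℕ, (∀ a ∈ μ, 0 < a ∧ a ≤ p) →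
    ∃ (h : (Fin μ.sum → F) → (Fin μ.sum → F) → F) (N : Module.End F (Fin μ.sum → F)),
      IsHerm q h ∧ Nondeg h ∧ Skew h N ∧ N ^ p = 0 ∧
      ∀ j, finrank F ↥(LinearMap.range (N ^ j)) = rk μ j := by
  intro μ
  induction μ using Multiset.induction with
  | empty =>
    intro _
    haveI : IsEmpty (Fin (Multiset.sum (0 : Multiset ℕ))) := by rw [Multiset.sum_zero]; infer_instance
    exact ⟨fun _ _ => 0, 0, ⟨fun _ _ _ => by simp, fun _ _ _ => by simp, fun _ _ =>
      (Unitary.zero_pow_q hF).symm⟩, fun x _ => Subsingleton.elim _ _, fun _ _ => by simp,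
      Subsingleton.elim _ _, fun j => by rw [finrank_zero_of_subsingleton]; simp [rk]⟩
  | cons b μ ih =>
    intro hμ
    obtain ⟨hb0, hbp⟩ := hμ b (Multiset.mem_cons_self _ _)
    obtain ⟨h, M, hH, hnd, hM, hMp, hMj⟩ := ih fun a ha => hμ a (Multiset.mem_cons_of_mem ha)
    obtain ⟨ε, hε0, hε⟩ : ∃ ε : F, ε ≠ 0 ∧ ε ^ q = (-1) ^ (b - 1) * ε := by
      rcases neg_one_pow_eq_or F (b - 1) with hs | hs
      · exact ⟨1, one_ne_zero, by rw [hs, one_pow, one_mul]⟩
      · obtain ⟨d, hd0, hd⟩ := Unitary.exists_skew hF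
        exact ⟨d, hd0, by rw [hs, hd, neg_one_mul]⟩
    let e : ((Fin b → F) × (Fin μ.sum → F)) ≃ₗ[F] (Fin (b ::ₘ μ).sum → F) :=
      LinearEquiv.ofFinrankEq _ _ (by
        rw [Module.finrank_prod, Module.finrank_fin_fun, Module.finrank_fin_fun, Module.finrank_fin_fun,
          Multiset.sum_cons])
    have Hb := blockForm_isHerm (k := b) hF hε
    have hpow : ∀ j, (e.conj ((shift F b).prodMap M)) ^ j = e.conj ((shift F b ^ j).prodMap (M ^ j)) := by
      intro j
      show (e.conjAlgEquiv F _) ^ j = e.conjAlgEquiv F _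
      rw [← map_pow]
      congr 1
      induction j with
      | zero => exact LinearMap.ext fun v => rfl
      | succ j ihj => rw [pow_succ, ihj, LinearMap.prodMap_mul, ← pow_succ, ← pow_succ]
    refine ⟨fun x y => blockForm q ε (e.symm x).1 (e.symm y).1 + h (e.symm x).2 (e.symm y).2,
      e.conj ((shift F b).prodMap M), ⟨fun x y z => ?_, fun c x z => ?_, fun x y => ?_⟩, fun x hx => ?_,
      fun x y => ?_, ?_, fun j => ?_⟩
    · simp only [map_add, Prod.fst_add, Prod.snd_add, Hb.add_left, hH.add_left]; ring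
    · simp only [map_smul, Prod.smul_fst, Prod.smul_snd, Hb.smul_left, hH.smul_left]; ring
    · rw [Hb.conj_symm (e.symm x).1 (e.symm y).1, hH.conj_symm (e.symm x).2 (e.symm y).2, Unitary.add_pow_q hF]
    · refine e.symm.injective ?_
      rw [map_zero]
      refine Prod.ext (blockForm_nondeg hF hε0 _ fun y => ?_) (hnd _ fun y => ?_)
      · have := hx (e (y, 0)); simpa [hH.zero_right hF] using this
      · have := hx (e (0, y)); simpa [Hb.zero_right hF] using this
    · simp only [LinearEquiv.conj_apply, LinearMap.comp_apply, LinearEquiv.coe_coe,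
        LinearEquiv.symm_apply_apply, LinearMap.prodMap_apply]
      rw [blockForm_skew hF ε, hM]
      ring
    · rw [hpow, shift_pow_eq_zero hbp, hMp]
      exact LinearMap.ext fun v => e.map_zero
    · rw [hpow, rk_cons, ← hMj, ← finrank_range_shift (F := F) hb0, LinearEquiv.conj_apply,
        LinearMap.range_comp, LinearEquiv.range, Submodule.map_top, LinearMap.range_comp,
        LinearEquiv.finrank_map_eq e, LinearMap.range_prodMap, finrank_submodule_prod]

end Model

end Cfsg.Agent.ElusiveU
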