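import Cfsg.Agent.Lib.ElusiveU.Scalars
import Cfsg.Agent.Lib.ElusiveU.Skew
import Cfsg.Agent.Lib.PrimeOrderElt.Unipotent
import Cfsg.Agent.Lib.PrimeOrderElt.Construct
import Cfsg.Agent.EqLemmas
/-
Reduction of statements on elements of prime order of PSU to isometries.
* `AllFix`, `allFix_iff`  : the statement in terms of isometries
* `negQOrder_eq`, `two_iff` : the number `c`
* `exists_split_at`       : the witness with fixed space of dimension `n % c`
* `exists_monomial_iso`   : the witness with non-root `r`-th power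
-/

set_option autoImplicit false
set_option linter.unusedSectionVars false
set_option linter.style.haveILetI false

namespace Cfsg.Agent.ElusiveU

open Module
open Cfsg.Agent.Unitary (IsHerm Nondeg IsUnitary)
open Cfsg.Agent.PrimeOrderElt (Inv fix mem_fix)

section Order

variable {r q : ℕ} [Fact r.Prime]

theorem neg_one_ne_one (h2 : 2 < r) : (-1 : ZMod r) ≠ 1 :=
  haveI : Fact (2 < r) := ⟨h2⟩
  ZMod.neg_one_ne_one

/-- The number `c` of the statements. -/
theorem negQOrder_eq (h2 : 2 < r) (hq : (q : ZMod r) ≠ 0) :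
    negQOrder r q = if orderOf (q : ZMod r) % 4 = 0 then orderOf (q : ZMod r)
      else if orderOf (q : ZMod r) % 4 = 2 then orderOf (q : ZMod r) / 2 else 2 * orderOf (q : ZMod r) := by
  set a : ZMod r := (q : ZMod r)
  set i := orderOf a with hi
  have hipos : 0 < i := (isOfFinOrder_iff_pow_eq_one.2
    ⟨r - 1, Nat.sub_pos_of_lt (Fact.out : r.Prime).one_lt, ZMod.pow_card_sub_one_eq_one hq⟩).orderOf_pos
  show orderOf (-a) = _
  have hneg : ∀ k, (-a) ^ k = 1 → a ^ (2 * k) = 1 := fun k hk => by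
    rw [pow_mul, ← neg_sq, ← pow_mul, mul_comm, pow_mul, hk, one_pow]
  split_ifs with h0 h1
  · refine Nat.dvd_antisymm (orderOf_dvd_of_pow_eq_one ?_) ?_
    · rw [(Nat.even_iff.2 (by omega) : Even i).neg_pow, hi, pow_orderOf_eq_one]
    rcases Nat.even_or_odd (orderOf (-a)) with he | ho
    · exact orderOf_dvd_of_pow_eq_one (by rw [← he.neg_pow, pow_orderOf_eq_one])
    · obtain ⟨s, hs⟩ : i ∣ 2 * orderOf (-a) :=
        orderOf_dvd_of_pow_eq_one (hneg _ (pow_orderOf_eq_one _))
      obtain ⟨t, ht⟩ := ho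
      obtain ⟨u, hu⟩ : 4 ∣ i * s := Dvd.dvd.mul_right (Nat.dvd_of_mod_eq_zero h0) s
      omega
  · have hhalf : a ^ (i / 2) = -1 := by
      have hsq : a ^ (i / 2) * a ^ (i / 2) = 1 := by
        rw [← pow_add, show i / 2 + i / 2 = i by omega, hi, pow_orderOf_eq_one]
      exact (mul_self_eq_one_iff.1 hsq).resolve_left (pow_ne_one_of_lt_orderOf (by omega) (by omega))
    refine Nat.dvd_antisymm (orderOf_dvd_of_pow_eq_one ?_) ?_
    · rw [(Nat.odd_iff.2 (by omega) : Odd (i / 2)).neg_pow, hhalf, neg_neg]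
    · refine Nat.dvd_of_mul_dvd_mul_left (two_pos) ?_
      rw [show 2 * (i / 2) = i by omega]
      exact orderOf_dvd_of_pow_eq_one (hneg _ (pow_orderOf_eq_one _))
  · have ho : Nat.Coprime (orderOf (-1 : ZMod r)) i := by
      rw [orderOf_eq_prime (p := 2) (by simp) (neg_one_ne_one h2), Nat.coprime_two_left, Nat.odd_iff]
      omega
    rw [neg_eq_neg_one_mul, (Commute.all (-1 : ZMod r) a).orderOf_mul_eq_mul_orderOf_of_coprime ho,
      orderOf_eq_prime (p := 2) (by simp) (neg_one_ne_one h2)]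

theorem two_iff (h2 : 2 < r) : orderOf (q : ZMod r) = 2 ↔ r ∣ q + 1 := by
  rw [← ZMod.natCast_eq_zero_iff, Nat.cast_succ, ← eq_neg_iff_add_eq_zero]
  constructor
  · intro h
    have hsq : (q : ZMod r) * q = 1 := by rw [← pow_two, ← h, pow_orderOf_eq_one]
    exact (mul_self_eq_one_iff.1 hsq).resolve_left fun e => by
      rw [e, orderOf_one] at h; omega
  · intro h
    rw [h]
    exact orderOf_eq_prime (by simp) (neg_one_ne_one h2)

theorem negQOrder_eq_one (h : r ∣ q + 1) : negQOrder r q = 1 := by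
  rw [← ZMod.natCast_eq_zero_iff, Nat.cast_succ, ← eq_neg_iff_add_eq_zero] at h
  rw [negQOrder, h, neg_neg, orderOf_one]

end Order

section Field

variable {F : Type*} [Field F] [Fintype F] {q r n : ℕ} [Fact r.Prime] (hF : Fintype.card F = q ^ 2)

include hF in
theorem dvd_q {p : ℕ} [Fact p.Prime] [CharP F p] : p ∣ q := by
  have h : ((Fintype.card F : ℕ) : F) = 0 := Nat.cast_card_eq_zero F
  rw [CharP.cast_eq_zero_iff F p, hF] at h
  exact (Fact.out : p.Prime).dvd_of_dvd_pow h

include hF in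
theorem not_dvd_succ_q {p : ℕ} [Fact p.Prime] [CharP F p] : ¬ p ∣ q + 1 := fun h => by
  have := Nat.dvd_sub h (dvd_q hF (F := F) (p := p))
  rw [show q + 1 - q = 1 by omega] at this
  exact (Fact.out : p.Prime).one_lt.ne' (Nat.dvd_one.1 this)

/-- The statement for isometries of determinant one. -/
def AllFix (q r n : ℕ) (F : Type*) [Field F] (P : Module.End F (Fin n → F) → Prop) : Prop :=
  ∀ M : Matrix (Fin n) (Fin n) F, IsUnitary q M → M.det = 1 →
    (∃ z : F, (Matrix.toLin' M : Module.End F (Fin n → F)) ^ r = z • (1 : Module.End F (Fin n → F))) →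
    (∀ z : F, (Matrix.toLin' M : Module.End F (Fin n → F)) ≠ z • (1 : Module.End F (Fin n → F))) →
    P (Matrix.toLin' M)

theorem allFix_iff (P : Module.End F (Fin n → F) → Prop) :
    (∀ x : Matrix.SpecialLinearGroup (Fin n) F, x ∈ Cfsg.SU n F q →
      (∃ z : F, ((x ^ r : Matrix.SpecialLinearGroup (Fin n) F) : Matrix (Fin n) (Fin n) F) = z • (1 : Matrix (Fin n) (Fin n) F)) →
      (∀ z : F, (x : Matrix (Fin n) (Fin n) F) ≠ z • (1 : Matrix (Fin n) (Fin n) F)) →
      P (Matrix.toLin' (x : Matrix (Fin n) (Fin n) F))) ↔ AllFix q r n F P := by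
  have hsc : ∀ (M : Matrix (Fin n) (Fin n) F) (z : F),
      (Matrix.toLin' M : Module.End F (Fin n → F)) = z • (1 : Module.End F (Fin n → F)) ↔ M = z • 1 := by
    intro M z
    rw [show z • (1 : Module.End F (Fin n → F)) = Matrix.toLin' (z • (1 : Matrix (Fin n) (Fin n) F)) by
      rw [map_smul, Matrix.toLin'_one]; rfl]
    exact Matrix.toLin'.injective.eq_iff
  constructor
  · rintro h M hM hd ⟨z, hz⟩ hns
    exact h ⟨M, hd⟩ hM ⟨z, (PrimeOrderElt.pow_eq_smul_iff _ r z).2 hz⟩ fun z' e => hns z' ((hsc M z').2 e)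
  · rintro h x hx ⟨z, hz⟩ hns
    exact h x hx x.2 ⟨z, (PrimeOrderElt.pow_eq_smul_iff x r z).1 hz⟩ fun z' e => hns z' ((hsc _ z').1 e)

/-- A witness. -/
theorem not_allFix {P : Module.End F (Fin n → F) → Prop} {V : Type*} [AddCommGroup V] [Module F V]
    [FiniteDimensional F V] {h : V → V → F} (hF : Fintype.card F = q ^ 2) (H : IsHerm q h) (hnd : Nondeg h)
    (hn : finrank F V = n) {y : Module.End F V} (hy : IsIso h y) (hd : LinearMap.det y = 1) {z : F}
    (hz : y ^ r = z • (1 : Module.End F V)) (hns : ∀ c : F, y ≠ c • (1 : Module.End F V))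
    {Q : Module.End F V → Prop} (hQ : ¬ Q y)
    (hPQ : ∀ M : Matrix (Fin n) (Fin n) F,
      (∀ m, HasNd (Cfsg.hermForm n F q) (Matrix.toLin' M) m → HasNd h y m) →
      (∀ m, HasIso (Cfsg.hermForm n F q) (Matrix.toLin' M) m → HasIso h y m) →
      P (Matrix.toLin' M) → Q y) : ¬ AllFix q r n F P := by
  obtain ⟨M, hM, hMd, hpow, hsc, hnd', hiso⟩ := exists_model hF H hnd hn hy
  exact fun hall => hQ (hPQ M hnd' hiso
    (hall M hM (hMd.trans hd) ⟨z, hpow r z hz⟩ fun c e => hns c (hsc c e)))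

include hF in
theorem eq_one_of_both {a : F} (h : ¬ r ∣ q + 1) (h1 : a ^ r = 1) (h2 : a ^ (q + 1) = 1) : a = 1 := by
  have hg := pow_gcd_eq_one.2 ⟨h1, h2⟩
  rwa [((Fact.out : r.Prime).coprime_iff_not_dvd.2 h).gcd_eq_one, pow_one] at hg

include hF in
theorem det_norm_iso {V : Type*} [AddCommGroup V] [Module F V] [FiniteDimensional F V] {h : V → V → F}
    (H : IsHerm q h) (hnd : Nondeg h) {y : Module.End F V} (hy : IsIso h y) :
    LinearMap.det y ^ (q + 1) = 1 := by
  obtain ⟨M, hM, hMd, -⟩ := exists_model hF H hnd rfl hy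
  rw [← hMd]
  exact hM.det_norm hF

include hF in
/-- The witness with prescribed fixed space, for `r` prime to `q + 1`. -/
theorem exists_split_at (hr : (r : F) ≠ 0) (hrq : ¬ r ∣ q + 1) (f u : ℕ) (hu : 0 < u) (e : Fin u → ℕ)
    (he : ∀ j, ¬ r ∣ e j) :
    ∃ (g : Module.End F (Fin (negQOrder r q) → F))
      (y : Module.End F ((Fin f → F) × (Fin u → (Fin (negQOrder r q) → F)))),
      IsIso (Cfsg.hermForm (negQOrder r q) F q) g ∧ g ^ r = 1 ∧ fix g = ⊥ ∧
      y = Elusive.blockMap (Fin f → F) g e ∧ IsIso (sumForm q f u (negQOrder r q)) y ∧ y ^ r = 1 ∧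
      LinearMap.det y = 1 ∧ (∀ c : F, y ≠ c • (1 : Module.End F _)) ∧
      finrank F ↥(fix y) = f := by
  obtain ⟨g, y, hg, hgr, hgf, hyeq, hy, hyr, hfix⟩ := exists_blocks hF hr f u e he
  have H := sumForm_isHerm (F := F) hF f u (negQOrder r q)
  have hnd := sumForm_nondeg (F := F) hF f u (negQOrder r q)
  refine ⟨g, y, hg, hgr, hgf, hyeq, hy, hyr, eq_one_of_both hF hrq ?_ (det_norm_iso hF H hnd hy), ?_, hfix⟩
  · rw [← map_pow, hyr, map_one]
  intro c hc
  have hd : finrank F ((Fin f → F) × (Fin u → (Fin (negQOrder r q) → F))) = f + u * negQOrder r q := by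
    simp [Module.finrank_prod, Module.finrank_pi_fintype]
  have hpos : 0 < u * negQOrder r q := Nat.mul_pos hu (negQOrder_pos hF hr)
  haveI : Nontrivial ((Fin f → F) × (Fin u → (Fin (negQOrder r q) → F))) :=
    Module.nontrivial_of_finrank_pos (R := F) (by omega)
  have h1 : c = 1 := by
    refine eq_one_of_both hF hrq ?_ (scalar_norm hF H hnd hy hc)
    obtain ⟨v, hv⟩ := exists_ne (0 : (Fin f → F) × (Fin u → (Fin (negQOrder r q) → F)))
    have h' := LinearMap.congr_fun hyr v
    rw [hc, _root_.smul_pow, one_pow, LinearMap.smul_apply, Module.End.one_apply] at h'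
    exact smul_left_injective F hv (h'.trans (one_smul F v).symm)
  rw [h1, one_smul] at hc
  have hfull : fix y = ⊤ := top_le_iff.1 fun v _ => mem_fix.2 (by rw [hc]; rfl)
  rw [hfull, finrank_top, hd] at hfix
  omega

include hF in
/-- The witness whose `r`-th power is a non-root. -/
theorem exists_monomial_iso {k : ℕ} (hn : n = k * r) (hn0 : 0 < n) {z : F} (hz : z ^ (q + 1) = 1)
    (hnr : ¬ ∃ w : F, w ^ (q + 1) = 1 ∧ w ^ r = z) (hdet : ((-1) ^ (r - 1) * z) ^ k = 1) :
    ∃ M : Matrix (Fin n) (Fin n) F, IsUnitary q M ∧ M.det = 1 ∧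
      (Matrix.toLin' M : Module.End F (Fin n → F)) ^ r = z • (1 : Module.End F (Fin n → F)) ∧
      ∀ c : F, (Matrix.toLin' M : Module.End F (Fin n → F)) ≠ c • (1 : Module.End F (Fin n → F)) := by
  obtain ⟨M, hM, hMd, hMr⟩ := exists_monomial hF hn z hz
  refine ⟨M, hM, hMd.trans hdet, hMr, fun c hc => hnr ⟨c, ?_, ?_⟩⟩
  · haveI : Nontrivial (Fin n → F) := Module.nontrivial_of_finrank_pos (R := F) (by
      rw [Module.finrank_fin_fun]; exact hn0)
    exact scalar_norm hF (Unitary.hermForm_isHerm hF n) (Unitary.hermForm_nondeg hF n)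
      (fun u v => by rw [Matrix.toLin'_apply, Matrix.toLin'_apply]; exact hM u v) hc
  · rw [hc, _root_.smul_pow, one_pow] at hMr
    have h' := congrFun (LinearMap.congr_fun hMr (Pi.single ⟨0, hn0⟩ 1)) ⟨0, hn0⟩
    simpa using h'

include hF in
/-- A scalar `r`-th power with a root gives an isometry of order `r`. -/
theorem exists_root_reduce {x : Module.End F (Fin n → F)} (hx : IsIso (Cfsg.hermForm n F q) x) {z w : F}
    (hxr : x ^ r = z • (1 : Module.End F (Fin n → F))) (hw : w ^ (q + 1) = 1) (hwr : w ^ r = z) :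
    ∃ y : Module.End F (Fin n → F), IsIso (Cfsg.hermForm n F q) y ∧ y ^ r = 1 ∧
      ∀ W : Submodule F (Fin n → F), Inv y W → Inv x W :=
  ⟨_, unscale hF (Unitary.hermForm_isHerm hF n) hx hw hwr hxr⟩

end Field

end Cfsg.Agent.ElusiveU
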