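import Cfsg.Agent.Lib.Unitary.Group
import Cfsg.Agent.Lib.PrimeOrderElt.Jordan
/-
Non-degenerate subspaces of hermitian spaces and invariant decompositions.
* `NdOn`, `orth`      : non-degeneracy on a subspace, orthogonal subspace
* `exists_aniso`      : a non-degenerate non-zero subspace has an anisotropic vector
* `finrank_inf_orth`  : dimension of the complement of a non-degenerate subspace
* `exists_multiples`  : pieces of dimension `c` everywhere give all multiples of `c`
* `HasNd`, `HasIso`   : invariant non-degenerate or totally isotropic subspaces of dimension `m`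
* `exists_model`      : an isometry realised by a unitary matrix
-/

set_option autoImplicit false
set_option linter.unusedSectionVars false
set_option linter.style.haveILetI false

namespace Cfsg.Agent.ElusiveU

open Module
open Cfsg.Agent.Unitary (IsHerm Nondeg Orthonormal)
open Cfsg.Agent.PrimeOrderElt (Inv inv_apply inv_inf inv_sup)

variable {F : Type*} [Field F] {V : Type*} [AddCommGroup V] [Module F V] {q : ℕ} {h : V → V → F}

/-- Non-degeneracy on a subspace. -/
def NdOn (h : V → V → F) (X : Submodule F V) : Prop := ∀ x ∈ X, (∀ y ∈ X, h x y = 0) → x = 0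

/-- Totally isotropic subspace. -/
def Iso0 (h : V → V → F) (X : Submodule F V) : Prop := ∀ x ∈ X, ∀ y ∈ X, h x y = 0

/-- An invariant non-degenerate subspace of dimension `m`. -/
def HasNd (h : V → V → F) (f : Module.End F V) (m : ℕ) : Prop :=
  ∃ W : Submodule F V, finrank F W = m ∧ NdOn h W ∧ Inv f W

/-- An invariant totally isotropic subspace of dimension `m`. -/
def HasIso (h : V → V → F) (f : Module.End F V) (m : ℕ) : Prop :=
  ∃ W : Submodule F V, finrank F W = m ∧ Iso0 h W ∧ Inv f W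

/-- An isometry. -/
def IsIso (h : V → V → F) (f : Module.End F V) : Prop := ∀ u v, h (f u) (f v) = h u v

/-- The orthogonal subspace. -/
def orth (H : IsHerm q h) (S : Submodule F V) : Submodule F V where
  carrier := {v | ∀ s ∈ S, h v s = 0}
  add_mem' {a b} ha hb := fun s hs => by rw [H.add_left, ha s hs, hb s hs, add_zero]
  zero_mem' := fun s _ => H.zero_left s
  smul_mem' c a ha := fun s hs => by rw [H.smul_left, ha s hs, mul_zero]

theorem mem_orth {H : IsHerm q h} {S : Submodule F V} {v : V} : v ∈ orth H S ↔ ∀ s ∈ S, h v s = 0 := Iff.rfl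

theorem ndOn_bot (h : V → V → F) : NdOn h (⊥ : Submodule F V) := fun _ hx _ => (Submodule.mem_bot F).1 hx

theorem iso0_bot (H : IsHerm q h) : Iso0 h (⊥ : Submodule F V) := fun x hx y _ => by
  rw [(Submodule.mem_bot F).1 hx, H.zero_left]

theorem ndOn_top (hnd : Nondeg h) : NdOn h (⊤ : Submodule F V) :=
  fun x _ hx => hnd x fun y => hx y Submodule.mem_top

theorem IsIso.injective {f : Module.End F V} (H : IsHerm q h) (hnd : Nondeg h) (hf : IsIso h f) :
    Function.Injective f := by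
  rw [injective_iff_map_eq_zero]
  intro v hv
  exact hnd v fun w => by rw [← hf, hv, H.zero_left]

theorem IsIso.mul {f g : Module.End F V} (hf : IsIso h f) (hg : IsIso h g) : IsIso h (f * g) :=
  fun u v => (hf _ _).trans (hg u v)

theorem IsIso.pow {f : Module.End F V} (hf : IsIso h f) : ∀ k : ℕ, IsIso h (f ^ k) := by
  intro k
  induction k with
  | zero => exact fun u v => rfl
  | succ k ih => rw [pow_succ]; exact ih.mul hf

theorem IsIso.smul {f : Module.End F V} {w : F} (H : IsHerm q h) [Fintype F]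
    (hF : Fintype.card F = q ^ 2) (hw : w ^ (q + 1) = 1) (hf : IsIso h f) : IsIso h (w • f) := fun u v => by
  rw [LinearMap.smul_apply, LinearMap.smul_apply, H.smul_left, H.smul_right, ← mul_assoc, ← pow_succ', hw,
    one_mul, hf]

section Fin

variable [Fintype F] [FiniteDimensional F V] (hF : Fintype.card F = q ^ 2) (H : IsHerm q h)

theorem inv_orth (hnd : Nondeg h) {f : Module.End F V} (hf : IsIso h f) {S : Submodule F V} (hS : Inv f S) :
    Inv f (orth H S) := by
  rintro _ ⟨v, hv, rfl⟩ s hs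
  have heq : S.map f = S := Submodule.eq_of_le_of_finrank_eq hS
    (Submodule.equivMapOfInjective f (hf.injective H hnd) S).finrank_eq.symm
  rw [← heq] at hs
  obtain ⟨t, ht, rfl⟩ := hs
  rw [hf]
  exact hv t ht

include hF H

theorem mem_orth_symm {S : Submodule F V} {v s : V} (hv : v ∈ orth H S) (hs : s ∈ S) : h s v = 0 :=
  (H.eq_zero_symm hF).1 (hv s hs)

/-- An anisotropic vector. -/
theorem exists_aniso {X : Submodule F V} (hX : NdOn h X) (hX0 : X ≠ ⊥) : ∃ v ∈ X, h v v ≠ 0 := by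
  by_contra hno
  push Not at hno
  refine hX0 (le_bot_iff.1 fun x hx => (Submodule.mem_bot F).2 (hX x hx fun y hy => ?_))
  exact (H.comap X.subtype).eq_zero_of_isotropic hF (fun z => hno z z.2) ⟨x, hx⟩ ⟨y, hy⟩

/-- Projection onto a non-degenerate subspace. -/
theorem exists_proj {Y : Submodule F V} (hY : NdOn h Y) (v : V) : ∃ y ∈ Y, v - y ∈ orth H Y := by
  obtain ⟨b, hb⟩ := Unitary.exists_orthonormalBasis hF (H.comap Y.subtype)
    (fun x hx => Subtype.ext (hY x x.2 fun z hz => hx ⟨z, hz⟩))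
  have hb' : Orthonormal h fun i => (b i : V) := hb
  refine ⟨∑ i, h v (b i) • (b i : V), Y.sum_mem fun i _ => Y.smul_mem _ (b i).2, fun s hs => ?_⟩
  have hs' := Orthonormal.eq_sum_of_card (H.comap Y.subtype) hb (Fintype.card_fin _) ⟨s, hs⟩
  have hse : s = ∑ i, h s (b i) • (b i : V) := by
    have := congrArg (Subtype.val : Y → V) hs'
    simpa using this
  rw [hse, H.sum_right hF, Finset.sum_eq_zero]
  intro i _
  rw [H.smul_right, H.sub_left, Orthonormal.coeff H hb', sub_self, mul_zero]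

theorem disjoint_orth {Y : Submodule F V} (hY : NdOn h Y) : Y ⊓ orth H Y = ⊥ :=
  le_bot_iff.1 fun v hv => (Submodule.mem_bot F).2 (hY v hv.1 hv.2)

theorem sup_inf_orth {X Y : Submodule F V} (hY : NdOn h Y) (hYX : Y ≤ X) : Y ⊔ (X ⊓ orth H Y) = X := by
  refine le_antisymm (sup_le hYX inf_le_left) fun v hv => ?_
  obtain ⟨y, hy, hvy⟩ := exists_proj hF H hY v
  exact Submodule.mem_sup.2 ⟨y, hy, v - y, ⟨X.sub_mem hv (hYX hy), hvy⟩, by abel⟩

theorem finrank_inf_orth {X Y : Submodule F V} (hY : NdOn h Y) (hYX : Y ≤ X) :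
    finrank F ↥(X ⊓ orth H Y) + finrank F Y = finrank F X := by
  have h1 := Submodule.finrank_sup_add_finrank_inf_eq Y (X ⊓ orth H Y)
  rw [sup_inf_orth hF H hY hYX, show Y ⊓ (X ⊓ orth H Y) = ⊥ from
    le_bot_iff.1 ((inf_le_inf le_rfl inf_le_right).trans (disjoint_orth hF H hY).le), finrank_bot] at h1
  omega

theorem ndOn_inf_orth {X Y : Submodule F V} (hX : NdOn h X) (hY : NdOn h Y) (hYX : Y ≤ X) :
    NdOn h (X ⊓ orth H Y) := fun x hx hx0 => hX x hx.1 fun z hz => by
  rw [← sup_inf_orth hF H hY hYX] at hz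
  obtain ⟨a, ha, b, hb, rfl⟩ := Submodule.mem_sup.1 hz
  rw [H.add_right hF, hx.2 a ha, hx0 b hb, add_zero]

/-- Orthogonal non-degenerate subspaces add up. -/
theorem NdOn.sup {U W : Submodule F V} (hU : NdOn h U) (hW : NdOn h W) (ho : W ≤ orth H U) :
    NdOn h (U ⊔ W) ∧ finrank F ↥(U ⊔ W) = finrank F U + finrank F W := by
  refine ⟨fun x hx hx0 => ?_, PrimeOrderElt.finrank_sup_of_inf_eq_bot
    (le_bot_iff.1 ((inf_le_inf le_rfl ho).trans (disjoint_orth hF H hU).le))⟩
  obtain ⟨a, ha, b, hb, rfl⟩ := Submodule.mem_sup.1 hx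
  have ha0 : a = 0 := hU a ha fun z hz => by
    have := hx0 z (Submodule.mem_sup_left hz)
    rwa [H.add_left, ho hb z hz, add_zero] at this
  subst ha0
  rw [zero_add] at hx0 ⊢
  exact hW b hb fun z hz => hx0 z (Submodule.mem_sup_right hz)

/-- Pieces of dimension `c` in every non-degenerate invariant subspace give all multiples. -/
theorem exists_multiples (hnd : Nondeg h) {f : Module.End F V} (hf : IsIso h f) {c : ℕ} (hc : 0 < c)
    (P : Submodule F V → Prop) (hP : ∀ X Y, P X → Y ≤ X → P Y)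
    (piece : ∀ X, P X → Inv f X → NdOn h X → X ≠ ⊥ → ∃ Y ≤ X, Inv f Y ∧ NdOn h Y ∧ finrank F Y = c) :
    ∀ X, P X → Inv f X → NdOn h X → ∃ N, finrank F X = N * c ∧
      ∀ s ≤ N, ∃ W ≤ X, Inv f W ∧ NdOn h W ∧ finrank F W = s * c := by
  intro X
  induction X using WellFoundedLT.induction with
  | _ X ih =>
    intro hPX hXi hX
    by_cases hX0 : X = ⊥
    · subst hX0
      exact ⟨0, by rw [finrank_bot, zero_mul], fun s hs =>
        ⟨⊥, le_rfl, (Submodule.map_bot f).le, ndOn_bot h, by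
          rw [finrank_bot, Nat.le_zero.1 hs, zero_mul]⟩⟩
    obtain ⟨Y, hYX, hYi, hY, hYd⟩ := piece X hPX hXi hX hX0
    have hd := finrank_inf_orth hF H hY hYX
    have hlt : X ⊓ orth H Y < X := lt_of_le_of_ne inf_le_left fun e => by rw [e] at hd; omega
    obtain ⟨N, hN, hW⟩ := ih _ hlt (hP X _ hPX inf_le_left) (inv_inf hXi (inv_orth H hnd hf hYi))
      (ndOn_inf_orth hF H hX hY hYX)
    refine ⟨N + 1, by rw [add_mul, one_mul]; omega, fun s hs => ?_⟩
    rcases Nat.eq_zero_or_pos s with rfl | hs0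
    · exact ⟨⊥, bot_le, (Submodule.map_bot f).le, ndOn_bot h, by rw [finrank_bot, zero_mul]⟩
    obtain ⟨W, hWX, hWi, hW', hWd⟩ := hW (s - 1) (by omega)
    have ho : W ≤ orth H Y := fun v hv => (hWX hv).2
    refine ⟨Y ⊔ W, sup_le hYX (hWX.trans inf_le_left), inv_sup hYi hWi, (hY.sup hF H hW' ho).1, ?_⟩
    rw [(hY.sup hF H hW' ho).2, hYd, hWd]
    obtain ⟨s', rfl⟩ := Nat.exists_eq_succ_of_ne_zero hs0.ne'
    rw [Nat.succ_sub_one, Nat.succ_mul]
    omega

/-- An orthonormal basis of a non-degenerate subspace as an isometric embedding. -/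
theorem exists_coords {Y : Submodule F V} (hY : NdOn h Y) :
    ∃ L : (Fin (finrank F Y) → F) ≃ₗ[F] Y,
      ∀ u v, h (L u : V) (L v : V) = Cfsg.hermForm (finrank F Y) F q u v := by
  obtain ⟨b, hb⟩ := Unitary.exists_orthonormalBasis hF (H.comap Y.subtype)
    (fun x hx => Subtype.ext (hY x x.2 fun z hz => hx ⟨z, hz⟩))
  let B := basisOfLinearIndependentOfCardEqFinrank' b (hb.linearIndependent (H.comap Y.subtype))
    (Fintype.card_fin _)
  refine ⟨B.equivFun.symm, fun u v => ?_⟩
  rw [show B.equivFun.symm u = ∑ i, u i • b i by simp [B, Basis.equivFun_symm_apply],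
    show B.equivFun.symm v = ∑ i, v i • b i by simp [B, Basis.equivFun_symm_apply]]
  exact Unitary.Orthonormal.inner_sum hF (H.comap Y.subtype) hb u v

/-- An isometry realised by a unitary matrix. -/
theorem exists_model (hnd : Nondeg h) {n : ℕ} (hn : finrank F V = n) {y : Module.End F V} (hy : IsIso h y) :
    ∃ M : Matrix (Fin n) (Fin n) F, Unitary.IsUnitary q M ∧ M.det = LinearMap.det y ∧
      (∀ (k : ℕ) (z : F), y ^ k = z • (1 : Module.End F V) →
        (Matrix.toLin' M : Module.End F (Fin n → F)) ^ k = z • (1 : Module.End F (Fin n → F))) ∧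
      (∀ z : F, (Matrix.toLin' M : Module.End F (Fin n → F)) = z • (1 : Module.End F (Fin n → F)) →
        y = z • (1 : Module.End F V)) ∧
      (∀ m, HasNd (Cfsg.hermForm n F q) (Matrix.toLin' M) m → HasNd h y m) ∧
      ∀ m, HasIso (Cfsg.hermForm n F q) (Matrix.toLin' M) m → HasIso h y m := by
  subst hn
  obtain ⟨b, hb⟩ := Unitary.exists_orthonormalBasis hF H hnd
  let B := basisOfLinearIndependentOfCardEqFinrank' b (hb.linearIndependent H) (Fintype.card_fin _)
  set Φ : (Fin (finrank F V) → F) ≃ₗ[F] V := B.equivFun.symm with hΦdef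
  have hΦ : ∀ u v, h (Φ u) (Φ v) = Cfsg.hermForm (finrank F V) F q u v := fun u v => by
    rw [show Φ u = ∑ i, u i • b i by simp [Φ, B, Basis.equivFun_symm_apply],
      show Φ v = ∑ i, v i • b i by simp [Φ, B, Basis.equivFun_symm_apply]]
    exact Unitary.Orthonormal.inner_sum hF H hb u v
  set L : Module.End F (Fin (finrank F V) → F) := Φ.symm.toLinearMap ∘ₗ y ∘ₗ Φ.toLinearMap with hL
  have hLv : ∀ v, Φ (L v) = y (Φ v) := fun v => Φ.apply_symm_apply _
  have hpow : ∀ (k : ℕ) v, Φ ((L ^ k) v) = (y ^ k) (Φ v) := by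
    intro k
    induction k with
    | zero => intro v; rfl
    | succ k ih =>
      intro v
      rw [pow_succ', pow_succ', Module.End.mul_apply, Module.End.mul_apply, hLv, ih]
  refine ⟨LinearMap.toMatrix' L, fun u v => ?_, ?_, fun k z hz => ?_, fun z hz => ?_, ?_, ?_⟩
  · rw [LinearMap.toMatrix'_mulVec, LinearMap.toMatrix'_mulVec, ← hΦ, ← hΦ u v, hLv, hLv, hy]
  · rw [LinearMap.det_toMatrix']
    exact LinearMap.det_conj y Φ.symm
  · rw [Matrix.toLin'_toMatrix']
    refine LinearMap.ext fun v => Φ.injective ?_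
    rw [hpow, hz]; simp
  · rw [Matrix.toLin'_toMatrix'] at hz
    refine LinearMap.ext fun v => ?_
    obtain ⟨v, rfl⟩ := Φ.surjective v
    rw [← hLv, hz]; simp
  · rintro m ⟨W, hWd, hW, hWi⟩
    rw [Matrix.toLin'_toMatrix'] at hWi
    refine ⟨W.map Φ.toLinearMap, by rw [← hWd]; exact Φ.finrank_map_eq W, ?_, ?_⟩
    · rintro _ ⟨a, ha, rfl⟩ h0
      have : a = 0 := hW a ha fun c hc => by rw [← hΦ]; exact h0 _ ⟨c, hc, rfl⟩
      rw [this, map_zero]
    · rintro _ ⟨_, ⟨a, ha, rfl⟩, rfl⟩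
      exact ⟨L a, inv_apply hWi ha, hLv a⟩
  · rintro m ⟨W, hWd, hW, hWi⟩
    rw [Matrix.toLin'_toMatrix'] at hWi
    refine ⟨W.map Φ.toLinearMap, by rw [← hWd]; exact Φ.finrank_map_eq W, ?_, ?_⟩
    · rintro _ ⟨a, ha, rfl⟩ _ ⟨c, hc, rfl⟩
      exact (hΦ a c).trans (hW a ha c hc)
    · rintro _ ⟨_, ⟨a, ha, rfl⟩, rfl⟩
      exact ⟨L a, inv_apply hWi ha, hLv a⟩

end Fin

end Cfsg.Agent.ElusiveU
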