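import Cfsg.Agent.Lib.ElusiveU.Pieces
import Cfsg.Agent.Lib.Elusive.Witness
import Cfsg.Agent.Lib.PrimeOrderElt.Construct
import Cfsg.Agent.Lib.GLOrder.Symplectic
/-
Scalars of norm one, elements with a scalar power, and witnesses.
* `exists_root_coprime`, `root_iff`, `dvd_of_nonroot`, `exists_nonroot`, `exists_sqrt`
* `exists_blocks`     : `u` blocks of dimension `c` and a fixed space
* `exists_monomial`   : cycles of length `r` with a scalar `r`-th power
* `nonroot_pieces`, `nonroot_pieces_two`, `det_two`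
* `exists_nd_index`   : a prime dividing the number of non-degenerate `m`-spaces
-/

set_option autoImplicit false
set_option linter.unusedSectionVars false
set_option linter.style.haveILetI false

namespace Cfsg.Agent.ElusiveU

open Module
open Cfsg.Agent.Unitary (IsHerm Nondeg Orthonormal IsUnitary)
open Cfsg.Agent.PrimeOrderElt (Inv inv_apply inv_inf inv_sup fix mem_fix)

section Roots

variable {F : Type*} [Field F] [Fintype F] {q r : ℕ} [Fact r.Prime] (hF : Fintype.card F = q ^ 2)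

theorem exists_root_coprime (h : ¬ r ∣ q + 1) {z : F} (hz : z ^ (q + 1) = 1) :
    ∃ w : F, w ^ (q + 1) = 1 ∧ w ^ r = z := by
  have hco : Nat.Coprime r (q + 1) := (Fact.out : r.Prime).coprime_iff_not_dvd.2 h
  rcases Nat.eq_zero_or_pos q with rfl | hq
  · exact ⟨1, one_pow _, by rw [one_pow]; simpa using hz.symm⟩
  obtain ⟨a, -, ha⟩ := Nat.exists_mul_mod_eq_one_of_coprime hco (by omega)
  refine ⟨z ^ a, by rw [← pow_mul, mul_comm, pow_mul, hz, one_pow], ?_⟩
  rw [← pow_mul, mul_comm, ← Nat.div_add_mod (r * a) (q + 1), ha, pow_add, pow_mul, hz, one_pow, one_mul, pow_one]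

include hF in
theorem exists_prim : ∃ ζ : F, IsPrimitiveRoot ζ (q + 1) := by
  obtain ⟨g, hg⟩ := IsCyclic.exists_ofOrder_eq_natCard (α := Fˣ)
  rw [Unitary.card_units hF] at hg
  obtain ⟨t, ht⟩ := Unitary.q_succ_dvd q
  have h2 := Unitary.two_le_q hF
  have h4 : 4 ≤ q ^ 2 := by nlinarith
  have h := IsPrimitiveRoot.orderOf (g : F)
  rw [orderOf_units, hg] at h
  exact ⟨_, h.pow (by omega) (by rw [ht, mul_comm])⟩

include hF in
theorem root_iff (h : r ∣ q + 1) {z : F} (hz : z ^ (q + 1) = 1) :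
    (∃ w : F, w ^ (q + 1) = 1 ∧ w ^ r = z) ↔ z ^ ((q + 1) / r) = 1 := by
  constructor
  · rintro ⟨w, hw, rfl⟩
    rw [← pow_mul, Nat.mul_div_cancel' h, hw]
  · intro h1
    obtain ⟨ζ, hζ⟩ := exists_prim hF
    obtain ⟨j, -, rfl⟩ := hζ.eq_pow_of_pow_eq_one hz
    rw [← pow_mul, hζ.pow_eq_one_iff_dvd] at h1
    obtain ⟨t, ht⟩ := h
    rw [ht, Nat.mul_div_cancel_left _ (Fact.out : r.Prime).pos] at h1
    obtain ⟨s, rfl⟩ : r ∣ j := Nat.dvd_of_mul_dvd_mul_right (Nat.pos_of_ne_zero fun e => by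
      rw [e, mul_zero] at ht; omega) h1
    exact ⟨ζ ^ s, by rw [← pow_mul, mul_comm, pow_mul, hζ.pow_eq_one, one_pow],
      by rw [← pow_mul, mul_comm]⟩

include hF in
/-- A norm-one scalar without norm-one root has full `r`-part. -/
theorem dvd_of_nonroot (h : r ∣ q + 1) {z : F} (hz : z ^ (q + 1) = 1)
    (hn : ¬ ∃ w : F, w ^ (q + 1) = 1 ∧ w ^ r = z) {k : ℕ} (hk : z ^ k = 1) :
    r ^ padicValNat r (q + 1) ∣ k := by
  rw [root_iff hF h hz] at hn
  set e := padicValNat r (q + 1) with he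
  have he1 : 1 ≤ e := one_le_padicValNat_of_dvd (Nat.succ_ne_zero q) h
  obtain ⟨t, ht⟩ : r ^ e ∣ q + 1 := pow_padicValNat_dvd
  have hdiv : (q + 1) / r = r ^ (e - 1) * t := by
    rw [ht, show r ^ e = r * r ^ (e - 1) by rw [← pow_succ', Nat.sub_add_cancel he1], mul_assoc,
      Nat.mul_div_cancel_left _ (Fact.out : r.Prime).pos]
  refine dvd_trans ?_ (orderOf_dvd_iff_pow_eq_one.2 hk)
  have ho := orderOf_dvd_iff_pow_eq_one.2 hz
  rw [ht] at ho
  obtain ⟨a, b, ha, hb, hab⟩ := Nat.dvd_mul.1 ho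
  obtain ⟨j, hj, rfl⟩ := (Nat.dvd_prime_pow (Fact.out : r.Prime)).1 ha
  rcases eq_or_lt_of_le hj with rfl | hlt
  · exact ⟨b, hab.symm⟩
  · exact absurd (orderOf_dvd_iff_pow_eq_one.1 (by
      rw [← hab, hdiv]; exact mul_dvd_mul (pow_dvd_pow r (by omega)) hb)) hn

include hF in
theorem exists_nonroot (h : r ∣ q + 1) {k : ℕ} (hk : r ^ padicValNat r (q + 1) ∣ k) :
    ∃ z : F, z ^ (q + 1) = 1 ∧ (¬ ∃ w : F, w ^ (q + 1) = 1 ∧ w ^ r = z) ∧ z ^ k = 1 := by
  obtain ⟨ζ, hζ⟩ := exists_prim hF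
  set e := padicValNat r (q + 1) with he
  have he1 : 1 ≤ e := one_le_padicValNat_of_dvd (Nat.succ_ne_zero q) h
  obtain ⟨t, ht⟩ : r ^ e ∣ q + 1 := pow_padicValNat_dvd
  have hz : (ζ ^ t) ^ (q + 1) = 1 := by rw [← pow_mul, mul_comm, pow_mul, hζ.pow_eq_one, one_pow]
  refine ⟨ζ ^ t, hz, fun hn => ?_, ?_⟩
  · rw [root_iff hF h hz, ← pow_mul, hζ.pow_eq_one_iff_dvd] at hn
    obtain ⟨s, hs⟩ := hn
    have hm : r * ((q + 1) / r) = q + 1 := Nat.mul_div_cancel' h
    have hpos : 0 < q + 1 := Nat.succ_pos q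
    have ht1 : r ∣ t := ⟨s, Nat.eq_of_mul_eq_mul_right (m := (q + 1) / r) (Nat.pos_of_ne_zero fun e0 => by
      rw [e0, mul_zero] at hm; omega) (by rw [hs]; nth_rewrite 1 [← hm]; ring)⟩
    refine pow_succ_padicValNat_not_dvd (p := r) (Nat.succ_ne_zero q) ?_
    show r ^ (padicValNat r (q + 1) + 1) ∣ q + 1
    have h' := Nat.mul_dvd_mul_left (r ^ e) ht1
    rwa [← ht, ← pow_succ, he] at h'
  · obtain ⟨s, rfl⟩ := hk
    rw [← pow_mul, ← mul_assoc, mul_comm t, ← ht, pow_mul, hζ.pow_eq_one, one_pow]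

include hF in
/-- A square root off the norm-one group. -/
theorem exists_sqrt (h2 : (2 : F) ≠ 0) {z : F} (hz : z ^ (q + 1) = 1)
    (hn : ¬ ∃ w : F, w ^ (q + 1) = 1 ∧ w ^ 2 = z) : ∃ θ : F, θ ^ 2 = z ∧ θ ^ (q + 1) = -1 := by
  have hc : ringChar F ≠ 2 := fun e => h2 (by
    haveI := ringChar.of_eq e
    exact_mod_cast CharP.cast_eq_zero F 2)
  have hodd : Odd q := by
    have h := FiniteField.odd_card_of_char_ne_two hc
    rw [hF] at h
    rcases Nat.even_or_odd q with he | ho
    · obtain ⟨j, rfl⟩ := he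
      rw [show (j + j) ^ 2 = 2 * (2 * j * j) by ring] at h
      omega
    · exact ho
  have hz0 : z ≠ 0 := fun e => by rw [e, zero_pow (Nat.succ_ne_zero q)] at hz; exact zero_ne_one hz
  obtain ⟨θ, hθ⟩ : IsSquare z := by
    rw [FiniteField.isSquare_iff hc hz0, hF]
    obtain ⟨j, rfl⟩ := hodd
    rw [show (2 * j + 1) ^ 2 / 2 = (2 * j + 1 + 1) * j by
      rw [show (2 * j + 1) ^ 2 = 2 * ((2 * j + 1 + 1) * j) + 1 by ring]; omega, pow_mul, hz, one_pow]
  refine ⟨θ, by rw [hθ, pow_two], ?_⟩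
  have h1 : θ ^ (q + 1) * θ ^ (q + 1) = 1 := by rw [← mul_pow, ← hθ, hz]
  exact (mul_self_eq_one_iff.1 h1).resolve_left fun e => hn ⟨θ, e, by rw [hθ, pow_two]⟩

end Roots

section Blocks

variable {F : Type*} [Field F] [Fintype F] {q r : ℕ} [Fact r.Prime] (hF : Fintype.card F = q ^ 2)

/-- The orthogonal sum of standard forms. -/
def sumForm (q f u c : ℕ) (x y : (Fin f → F) × (Fin u → (Fin c → F))) : F :=
  Cfsg.hermForm f F q x.1 y.1 + ∑ j, Cfsg.hermForm c F q (x.2 j) (y.2 j)

include hF in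
theorem sumForm_isHerm (f u c : ℕ) : IsHerm q (sumForm (F := F) q f u c) where
  add_left x y z := by
    simp only [sumForm, Prod.fst_add, Prod.snd_add, Pi.add_apply, (Unitary.hermForm_isHerm hF _).add_left,
      Finset.sum_add_distrib]
    ring
  smul_left a x z := by
    simp only [sumForm, Prod.smul_fst, Prod.smul_snd, Pi.smul_apply, (Unitary.hermForm_isHerm hF _).smul_left,
      ← Finset.mul_sum, mul_add]
  conj_symm x y := by
    simp only [sumForm]
    rw [Unitary.add_pow_q hF, Unitary.sum_pow_q hF, (Unitary.hermForm_isHerm hF f).conj_symm x.1 y.1]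
    congr 1
    exact Finset.sum_congr rfl fun j _ => (Unitary.hermForm_isHerm hF c).conj_symm (x.2 j) (y.2 j)

include hF in
theorem sumForm_nondeg (f u c : ℕ) : Nondeg (sumForm (F := F) q f u c) := fun x hx => by
  classical
  refine Prod.ext (Unitary.hermForm_nondeg hF f _ fun v => ?_) (funext fun j =>
    Unitary.hermForm_nondeg hF c _ fun v => ?_)
  · have := hx (v, 0)
    simpa [sumForm, (Unitary.hermForm_isHerm hF c).zero_right hF] using this
  · have := hx (0, Pi.single j v)
    simp only [sumForm] at this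
    rw [(Unitary.hermForm_isHerm hF f).zero_right hF, zero_add, Finset.sum_eq_single j
      (fun k _ hk => by rw [Pi.single_eq_of_ne hk, (Unitary.hermForm_isHerm hF c).zero_right hF])
      (fun hj => absurd (Finset.mem_univ j) hj), Pi.single_eq_same] at this
    exact this

include hF in
/-- The witness: powers of a block without fixed vectors, and a fixed space. -/
theorem exists_blocks (hr : (r : F) ≠ 0) (f u : ℕ) (e : Fin u → ℕ) (he : ∀ j, ¬ r ∣ e j) :
    ∃ (g : Module.End F (Fin (negQOrder r q) → F))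
      (y : Module.End F ((Fin f → F) × (Fin u → (Fin (negQOrder r q) → F)))),
      IsIso (Cfsg.hermForm (negQOrder r q) F q) g ∧ g ^ r = 1 ∧ fix g = ⊥ ∧
      y = Elusive.blockMap (Fin f → F) g e ∧ IsIso (sumForm q f u (negQOrder r q)) y ∧ y ^ r = 1 ∧
      finrank F ↥(fix y) = f := by
  obtain ⟨g, hg, hgr, hgf⟩ := exists_gu_free hF hr
  refine ⟨g, _, hg, hgr, hgf, rfl, fun x z => ?_, LinearMap.ext fun x => ?_, ?_⟩
  · simp only [sumForm, Elusive.blockMap_apply]
    congr 1
    exact Finset.sum_congr rfl fun j _ => hg.pow (e j) _ _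
  · rw [Elusive.blockMap_pow, Module.End.one_apply]
    refine Prod.ext rfl (funext fun j => ?_)
    simp only [mul_comm (e j) r, pow_mul, hgr, one_pow, Module.End.one_apply]
  · rw [Elusive.finrank_blocks_fix hgr hgf he, Module.finrank_fin_fun]

include hF in
open Fin.NatCast in
/-- Cycles of length `r` with scalar `r`-th power. -/
theorem exists_monomial {n k : ℕ} (hn : n = k * r) (z : F) (hz : z ^ (q + 1) = 1) :
    ∃ M : Matrix (Fin n) (Fin n) F, IsUnitary q M ∧ M.det = ((-1) ^ (r - 1) * z) ^ k ∧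
      (Matrix.toLin' M : Module.End F (Fin n → F)) ^ r = z • (1 : Module.End F (Fin n → F)) := by
  classical
  obtain ⟨r', hr'⟩ : ∃ r', r = r' + 2 := ⟨r - 2, by have := (Fact.out : r.Prime).two_le; omega⟩
  subst hr'
  let d : Fin (r' + 2) → F := Function.update 1 0 z
  have hd : ∀ j, d j ^ (q + 1) = 1 := fun j => by
    by_cases hj : j = 0
    · rw [hj]; simp [d, hz]
    · simp [d, Function.update_of_ne hj]
  let e : Fin (r' + 2) × Fin k ≃ Fin n := finProdFinEquiv.trans (finCongr (by rw [hn, Nat.mul_comm]))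
  let σ : Equiv.Perm (Fin (r' + 2) × Fin k) := Equiv.prodCongrLeft fun _ : Fin k => finRotate (r' + 2)
  let τ : Equiv.Perm (Fin n) := e.permCongr σ
  let M : Matrix (Fin n) (Fin n) F := Matrix.diagonal (fun i => d (e.symm i).1) * τ.permMatrix F
  have happly : ∀ (v : Fin n → F) (a : Fin (r' + 2) × Fin k),
      (M.mulVec v) (e a) = d a.1 * v (e (a.1 + 1, a.2)) := by
    intro v a
    rw [← Matrix.mulVec_mulVec, Matrix.mulVec_diagonal, Matrix.permMatrix_mulVec, Equiv.symm_apply_apply]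
    simp [τ, σ, Equiv.permCongr_apply, Equiv.prodCongrLeft, finRotate_apply]
  have hpow : ∀ (m : ℕ) (v : Fin n → F) (a : Fin (r' + 2) × Fin k), ((M ^ m).mulVec v) (e a) =
      (∏ l ∈ Finset.range m, d (a.1 + (l : Fin (r' + 2)))) * v (e (a.1 + (m : Fin (r' + 2)), a.2)) := by
    intro m
    induction m with
    | zero => intro v a; simp
    | succ m ih =>
      intro v a
      rw [pow_succ, ← Matrix.mulVec_mulVec, ih, happly, Finset.prod_range_succ, Nat.cast_succ, add_assoc]
      ring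
  have hprod : ∀ j : Fin (r' + 2), ∏ l ∈ Finset.range (r' + 2), d (j + (l : Fin (r' + 2))) = z := by
    intro j
    rw [← Fin.prod_univ_eq_prod_range (fun l => d (j + (l : Fin (r' + 2))))]
    simp only [Fin.cast_val_eq_self]
    refine (Equiv.prod_comp (Equiv.addLeft j) d).trans ?_
    rw [Finset.prod_update_of_mem (Finset.mem_univ _)]
    simp
  refine ⟨M, (Unitary.isUnitary_diagonal hF fun i => hd _).mul (Unitary.isUnitary_permMatrix τ), ?_, ?_⟩
  · rw [Matrix.det_mul, Matrix.det_diagonal, Matrix.det_permutation, ← Equiv.prod_comp e,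
      Fintype.prod_prod_type, Equiv.Perm.sign_permCongr, Equiv.Perm.sign_prodCongrLeft, sign_finRotate]
    simp only [Equiv.symm_apply_apply, Finset.prod_const, Finset.card_univ, Fintype.card_fin,
      Finset.prod_pow]
    rw [Finset.prod_update_of_mem (Finset.mem_univ _)]
    simp only [Pi.one_apply, Finset.prod_const_one, mul_one, Units.val_pow_eq_pow_val, Int.cast_pow,
      Units.val_neg, Units.val_one, Int.cast_neg, Int.cast_one]
    rw [mul_pow, ← pow_mul, mul_comm]
  · refine LinearMap.ext fun v => funext fun i => ?_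
    obtain ⟨a, rfl⟩ := e.surjective i
    rw [← PrimeOrderElt.pow_toLin', Matrix.toLin'_apply, hpow, Fin.natCast_self, add_zero, hprod]
    rfl

end Blocks

section Nonroot

variable {F : Type*} [Field F] [Fintype F] {q r : ℕ} [Fact r.Prime] {V : Type*} [AddCommGroup V] [Module F V]
  [FiniteDimensional F V] {h : V → V → F} {x : Module.End F V}
  (hF : Fintype.card F = q ^ 2) (H : IsHerm q h)

include hF H in
theorem scalar_norm (hnd : Nondeg h) [Nontrivial V] (hx : IsIso h x) {z : F}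
    (hz : x = z • (1 : Module.End F V)) : z ^ (q + 1) = 1 := by
  obtain ⟨v, -, hvv⟩ := exists_aniso hF H (ndOn_top hnd) top_ne_bot
  have h1 := hx v v
  rw [hz, LinearMap.smul_apply, Module.End.one_apply, H.smul_left, H.smul_right, ← mul_assoc, ← pow_succ'] at h1
  exact (mul_eq_right₀ hvv).1 h1

include hF H in
/-- Dividing by a root. -/
theorem unscale (hx : IsIso h x) {z w : F} (hw : w ^ (q + 1) = 1) (hwr : w ^ r = z)
    (hxr : x ^ r = z • (1 : Module.End F V)) :
    IsIso h (w⁻¹ • x) ∧ (w⁻¹ • x) ^ r = 1 ∧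
      ∀ W : Submodule F V, Inv (w⁻¹ • x) W → Inv x W := by
  have hw0 : w ≠ 0 := fun e => by rw [e, zero_pow (Nat.succ_ne_zero q)] at hw; exact zero_ne_one hw
  refine ⟨hx.smul H hF (by rw [inv_pow, hw, inv_one]), ?_, fun W hW =>
    (PrimeOrderElt.invariant_iff_smul x (inv_ne_zero hw0) W).1 hW⟩
  exact PrimeOrderElt.pow_eq_scalar_lift hw0 (by rw [hxr, hwr])

/-- A non-root of norm one is a non-power when `r` is odd. -/
theorem nonpower_of_nonroot (hF : Fintype.card F = q ^ 2) (hr2 : r ≠ 2) (hrq : r ∣ q + 1) {z : F}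
    (hz : z ^ (q + 1) = 1) (hn : ¬ ∃ w : F, w ^ (q + 1) = 1 ∧ w ^ r = z) : ∀ b : F, b ^ r ≠ z := by
  intro b hb
  refine hn ⟨b, ?_, hb⟩
  have hq := Unitary.two_le_q hF
  have hb0 : b ≠ 0 := fun e => by
    rw [← hb, e, zero_pow (Fact.out : r.Prime).ne_zero, zero_pow (Nat.succ_ne_zero q)] at hz
    exact zero_ne_one hz
  have h1 : (b ^ (q + 1)) ^ r = 1 := by rw [← pow_mul, mul_comm, pow_mul, hb, hz]
  have h2 : (b ^ (q + 1)) ^ (q - 1) = 1 :=
    (Unitary.fixed_iff hF (pow_ne_zero _ hb0)).1 (Unitary.pow_q_succ_fixed hF b)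
  have hco : Nat.Coprime r (q - 1) := (Fact.out : r.Prime).coprime_iff_not_dvd.2 fun hd => hr2 <| by
    have := Nat.dvd_sub hrq hd
    rw [show q + 1 - (q - 1) = 2 by omega] at this
    exact (Nat.prime_dvd_prime_iff_eq (Fact.out : r.Prime) Nat.prime_two).1 this
  have hg := pow_gcd_eq_one.2 ⟨h1, h2⟩
  rwa [hco.gcd_eq_one, pow_one] at hg

include hF H in
/-- Pieces of dimension `r` for a non-power. -/
theorem nonroot_pieces (hr : (r : F) ≠ 0) (hnd : Nondeg h) (hx : IsIso h x) {z : F}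
    (hz : ∀ b : F, b ^ r ≠ z) (hxr : x ^ r = z • (1 : Module.End F V)) :
    ∃ N, finrank F V = N * r ∧ ∀ s ≤ N, HasNd h x (s * r) := by
  obtain ⟨N, hN, hW⟩ := exists_multiples hF H hnd hx (Fact.out : r.Prime).pos (fun _ => True)
    (fun _ _ _ _ => trivial) (fun X _ hXi hX hX0 => by
      obtain ⟨v, hv, hvv⟩ := exists_aniso hF H hX hX0
      have hv0 : v ≠ 0 := fun e => hvv (by rw [e, H.zero_left])
      set S := Submodule.span F (Set.range fun j : Fin r => (x ^ (j : ℕ)) v) with hS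
      have hvS : v ∈ S := Submodule.subset_span ⟨⟨0, (Fact.out : r.Prime).pos⟩, by simp⟩
      have hSX : S ≤ X := Submodule.span_le.2 (by
        rintro _ ⟨j, rfl⟩; exact PrimeOrderElt.map_pow_le hXi j ⟨v, hv, rfl⟩)
      have hSi : Inv x S := by
        refine Submodule.map_le_iff_le_comap.mpr (Submodule.span_le.mpr ?_)
        rintro _ ⟨j, rfl⟩
        show x ((x ^ (j : ℕ)) v) ∈ S
        rw [← Module.End.mul_apply, ← pow_succ']
        rcases Nat.lt_or_ge ((j : ℕ) + 1) r with h | h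
        · exact Submodule.subset_span ⟨⟨_, h⟩, rfl⟩
        · rw [show (j : ℕ) + 1 = r by omega, hxr, LinearMap.smul_apply, Module.End.one_apply]
          exact S.smul_mem z hvS
      have hdim : ∀ U : Submodule F V, Inv x U → U ≤ S → U = ⊥ ∨ finrank F U = r := fun U hU hUS => by
        by_cases hU0 : U = ⊥
        · exact .inl hU0
        · have h1 := (Submodule.finrank_mono hUS).trans
            ((finrank_range_le_card _).trans_eq (Fintype.card_fin r))
          have hpos : 0 < finrank F U := Nat.pos_of_ne_zero fun e => hU0 (Submodule.finrank_eq_zero.1 e)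
          exact .inr (le_antisymm h1 (Nat.le_of_dvd hpos
            (PrimeOrderElt.dvd_finrank_of_nonpower Fact.out hz hxr hU)))
      have hSd : finrank F S = r :=
        (hdim S hSi le_rfl).resolve_left ((Submodule.ne_bot_iff S).2 ⟨v, hvS, hv0⟩)
      refine ⟨S, hSX, hSi, fun u hu hu0 => ?_, hSd⟩
      have hrad : S ⊓ orth H S = ⊥ := by
        refine (hdim _ (inv_inf hSi (inv_orth H hnd hx hSi)) inf_le_left).resolve_right fun e => hvv ?_
        rw [← Submodule.eq_of_le_of_finrank_eq (inf_le_left : S ⊓ orth H S ≤ S) (e.trans hSd.symm)] at hvS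
        exact hvS.2 v hvS.1
      have hum : u ∈ S ⊓ orth H S := ⟨hu, hu0⟩
      rwa [hrad, Submodule.mem_bot] at hum)
    ⊤ trivial le_top (ndOn_top hnd)
  rw [finrank_top] at hN
  refine ⟨N, hN, fun s hs => ?_⟩
  obtain ⟨W, -, hWi, hWn, hWd⟩ := hW s hs
  exact ⟨W, hWd, hWn, hWi⟩

variable {θ : F}

theorem eig_split (h2 : (2 : F) ≠ 0) (hθ : θ ≠ 0) (hxx : x ^ 2 = (θ ^ 2) • (1 : Module.End F V))
    {X : Submodule F V} (hXi : Inv x X) (v : V) (hv : v ∈ X) :
    ∃ a b, a ∈ X ∧ b ∈ X ∧ x a = θ • a ∧ x b = (-θ) • b ∧ v = a + b := by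
  have hxv : x (x v) = (θ * θ) • v := by
    rw [← Module.End.mul_apply, ← pow_two, hxx, pow_two θ]; rfl
  refine ⟨(2 * θ)⁻¹ • (θ • v + x v), (2 * θ)⁻¹ • (θ • v - x v),
    X.smul_mem _ (X.add_mem (X.smul_mem _ hv) (inv_apply hXi hv)),
    X.smul_mem _ (X.sub_mem (X.smul_mem _ hv) (inv_apply hXi hv)), ?_, ?_, ?_⟩
  · rw [map_smul, map_add, map_smul, hxv, smul_comm θ ((2 * θ)⁻¹), smul_add θ (θ • v), smul_smul θ θ, add_comm]
  · rw [map_smul, map_sub, map_smul, hxv, smul_comm (-θ) ((2 * θ)⁻¹), smul_sub (-θ) (θ • v), smul_smul (-θ) θ,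
      neg_mul, neg_smul, neg_smul]
    congr 1
    abel
  · rw [← smul_add, show θ • v + x v + (θ • v - x v) = (2 * θ) • v by rw [mul_smul, two_smul]; abel,
      inv_smul_smul₀ (mul_ne_zero h2 hθ)]

include hF H in
theorem eig_isotropic (h2 : (2 : F) ≠ 0) (hx : IsIso h x) (hθ : θ ^ (q + 1) = -1) {s : F}
    (hs : s = θ ∨ s = -θ) {a b : V} (ha : x a = s • a) (hb : x b = s • b) : h a b = 0 := by
  have hsn : s ^ (q + 1) = -1 := by
    rcases hs with rfl | rfl
    · exact hθ
    · rw [pow_succ, Unitary.neg_pow_q hF, neg_mul_neg, ← pow_succ, hθ]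
  have h1 := hx a b
  rw [ha, hb, H.smul_left, H.smul_right, ← mul_assoc, ← pow_succ', hsn] at h1
  exact (mul_eq_zero.1 (show (2 : F) * h a b = 0 by linear_combination -h1)).resolve_left h2

include hF H in
/-- Pieces of dimension two when `x² = θ²` with `θ^(q+1) = -1`. -/
theorem nonroot_pieces_two (h2 : (2 : F) ≠ 0) (hnd : Nondeg h) (hx : IsIso h x) (hθ : θ ^ (q + 1) = -1)
    (hxx : x ^ 2 = (θ ^ 2) • (1 : Module.End F V)) :
    ∃ N, finrank F V = N * 2 ∧ ∀ s ≤ N, HasNd h x (s * 2) := by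
  have hθ0 : θ ≠ 0 := fun e => by
    rw [e, zero_pow (Nat.succ_ne_zero q), eq_comm, neg_eq_zero] at hθ
    exact one_ne_zero hθ
  obtain ⟨N, hN, hW⟩ := exists_multiples hF H hnd hx two_pos (fun _ => True)
    (fun _ _ _ _ => trivial) (fun X _ hXi hX hX0 => by
      obtain ⟨v, hv, hvv⟩ := exists_aniso hF H hX hX0
      obtain ⟨a, b, haX, hbX, hax, hbx, rfl⟩ := eig_split h2 hθ0 hxx hXi v hv
      have haa := eig_isotropic hF H h2 hx hθ (.inl rfl) hax hax
      have hbb := eig_isotropic hF H h2 hx hθ (.inr rfl) hbx hbx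
      have hab : h a b ≠ 0 := fun e => hvv (by
        rw [H.add_left, H.add_right hF, H.add_right hF, haa, hbb, e, (H.eq_zero_symm hF).1 e]; simp)
      have hba : h b a ≠ 0 := fun e => hab ((H.eq_zero_symm hF).1 e)
      refine ⟨Submodule.span F {a, b},
        Submodule.span_le.2 (Set.insert_subset haX (Set.singleton_subset_iff.2 hbX)), ?_, fun u hu hu0 => ?_, ?_⟩
      · show Submodule.map x _ ≤ _
        rw [Submodule.map_span, Submodule.span_le]
        rintro _ ⟨w, hw, rfl⟩
        rcases hw with rfl | rfl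
        · rw [hax]; exact Submodule.smul_mem _ _ (Submodule.subset_span (Set.mem_insert _ _))
        · rw [hbx]; exact Submodule.smul_mem _ _ (Submodule.subset_span (Set.mem_insert_of_mem _ rfl))
      · obtain ⟨s, t, rfl⟩ := Submodule.mem_span_pair.1 hu
        have e1 := hu0 a (Submodule.subset_span (Set.mem_insert _ _))
        have e2 := hu0 b (Submodule.subset_span (Set.mem_insert_of_mem _ rfl))
        rw [H.add_left, H.smul_left, H.smul_left, haa, mul_zero, zero_add, mul_eq_zero] at e1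
        rw [H.add_left, H.smul_left, H.smul_left, hbb, mul_zero, add_zero, mul_eq_zero] at e2
        rw [e1.resolve_right hba, e2.resolve_right hab]
        simp
      · have hli : LinearIndependent F ![a, b] := by
          rw [LinearIndependent.pair_iff]
          intro s t hst
          have e1 : h (s • a + t • b) a = 0 := by rw [hst, H.zero_left]
          have e2 : h (s • a + t • b) b = 0 := by rw [hst, H.zero_left]
          rw [H.add_left, H.smul_left, H.smul_left, haa, mul_zero, zero_add, mul_eq_zero] at e1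
          rw [H.add_left, H.smul_left, H.smul_left, hbb, mul_zero, add_zero, mul_eq_zero] at e2
          exact ⟨e2.resolve_right hab, e1.resolve_right hba⟩
        have h' := finrank_span_eq_card hli
        rwa [Matrix.range_cons_cons_empty, Fintype.card_fin] at h')
    ⊤ trivial le_top (ndOn_top hnd)
  rw [finrank_top] at hN
  refine ⟨N, hN, fun s hs => ?_⟩
  obtain ⟨W, -, hWi, hWn, hWd⟩ := hW s hs
  exact ⟨W, hWd, hWn, hWi⟩

include hF H in
/-- The determinant when `x² = θ²` with `θ^(q+1) = -1`. -/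
theorem det_two (h2 : (2 : F) ≠ 0) (hnd : Nondeg h) (hx : IsIso h x) (hθ : θ ^ (q + 1) = -1)
    (hxx : x ^ 2 = (θ ^ 2) • (1 : Module.End F V)) :
    ∃ N, finrank F V = N * 2 ∧ LinearMap.det x = (-(θ ^ 2)) ^ N := by
  classical
  have hθ0 : θ ≠ 0 := fun e => by
    rw [e, zero_pow (Nat.succ_ne_zero q), eq_comm, neg_eq_zero] at hθ
    exact one_ne_zero hθ
  let P : F → Submodule F V := fun s => LinearMap.ker (x - s • (1 : Module.End F V))
  have hP : ∀ s v, v ∈ P s ↔ x v = s • v := fun s v => by simp [P, sub_eq_zero]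
  have hcd : Codisjoint (P θ) (P (-θ)) := by
    rw [codisjoint_iff, eq_top_iff]
    intro v _
    obtain ⟨a, b, -, -, ha, hb, rfl⟩ := eig_split h2 hθ0 hxx (X := ⊤) le_top v trivial
    exact Submodule.add_mem_sup ((hP _ _).2 ha) ((hP _ _).2 hb)
  have hdj : Disjoint (P θ) (P (-θ)) := by
    rw [Submodule.disjoint_def]
    intro v hv hv'
    rw [hP] at hv hv'
    rw [hv] at hv'
    have h3 : (2 * θ) • v = 0 := by
      rw [mul_smul, two_smul]
      nth_rewrite 1 [hv']
      rw [← add_smul, neg_add_cancel, zero_smul]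
    exact (smul_eq_zero.1 h3).resolve_left (mul_ne_zero h2 hθ0)
  have hle : ∀ s, (s = θ ∨ s = -θ) → finrank F ↥(P s) ≤ finrank F ↥(P (-s)) := by
    intro s hs
    let bs := Module.finBasis F (P (-s))
    let φ : P s →ₗ[F] (Fin (finrank F ↥(P (-s))) → F) :=
      { toFun := fun v j => h (v : V) (bs j : V)
        map_add' := fun u v => funext fun j => H.add_left _ _ _
        map_smul' := fun c v => funext fun j => H.smul_left _ _ _ }
    have hφ : Function.Injective φ := by
      rw [injective_iff_map_eq_zero]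
      intro v hv
      refine Subtype.ext (hnd _ fun u => ?_)
      obtain ⟨a, b, -, -, ha, hb, rfl⟩ := eig_split h2 hθ0 hxx (X := ⊤) le_top u trivial
      have hz : ∀ w ∈ P (-s), h (v : V) w = 0 := fun w hw => by
        have hs' : w = ∑ j, bs.repr ⟨w, hw⟩ j • (bs j : V) := by
          have := congrArg (Subtype.val : P (-s) → V) (bs.sum_repr ⟨w, hw⟩)
          simp only [Submodule.coe_sum, Submodule.coe_smul] at this
          exact this.symm
        rw [hs', H.sum_right hF, Finset.sum_eq_zero]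
        intro j _
        rw [H.smul_right, show h (v : V) (bs j : V) = 0 from congrFun hv j, mul_zero]
      rw [H.add_right hF]
      rcases hs with rfl | rfl
      · rw [eig_isotropic hF H h2 hx hθ (.inl rfl) ((hP _ _).1 v.2) ha, hz b ((hP _ _).2 hb), add_zero]
      · rw [eig_isotropic hF H h2 hx hθ (.inr rfl) ((hP _ _).1 v.2) hb, hz a ((hP _ _).2 (by rwa [neg_neg])),
          add_zero]
    exact (LinearMap.finrank_le_finrank_of_injective hφ).trans_eq (Module.finrank_fin_fun F)
  have hfr : finrank F ↥(P θ) = finrank F ↥(P (-θ)) := by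
    refine le_antisymm (hle θ (.inl rfl)) ?_
    have := hle (-θ) (.inr rfl)
    rwa [neg_neg] at this
  let e := Submodule.prodEquivOfIsCompl _ _ ⟨hdj, hcd⟩
  have hxe : x = e.toLinearMap ∘ₗ ((θ • (LinearMap.id : P θ →ₗ[F] P θ)).prodMap
      ((-θ) • (LinearMap.id : P (-θ) →ₗ[F] P (-θ)))) ∘ₗ e.symm.toLinearMap := by
    refine LinearMap.ext fun v => ?_
    obtain ⟨w, rfl⟩ := e.surjective v
    simp only [LinearMap.comp_apply, LinearEquiv.coe_coe, LinearEquiv.symm_apply_apply,
      LinearMap.prodMap_apply, LinearMap.smul_apply, LinearMap.id_apply]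
    rw [Submodule.coe_prodEquivOfIsCompl' _ _ ⟨hdj, hcd⟩ w,
      Submodule.coe_prodEquivOfIsCompl' _ _ ⟨hdj, hcd⟩, map_add, (hP _ _).1 w.1.2, (hP _ _).1 w.2.2]
    rfl
  refine ⟨finrank F ↥(P θ), ?_, ?_⟩
  · rw [← e.finrank_eq, Module.finrank_prod, ← hfr]; ring
  · rw [hxe, LinearMap.det_conj, LinearMap.det_prodMap, LinearMap.det_smul, LinearMap.det_smul,
      LinearMap.det_id, LinearMap.det_id, mul_one, mul_one, ← hfr, ← mul_pow]
    congr 1
    ring

end Nonroot

section Count

variable {F : Type*} [Field F] [Fintype F] {q r : ℕ} [Fact r.Prime]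

/-- A prime dividing the number of non-degenerate subspaces. -/
theorem exists_nd_index (hF : Fintype.card F = q ^ 2) (hr : (r : F) ≠ 0) {n m : ℕ} (hm : m ≤ n)
    (hdvd : r ∣ Nat.card {W : Submodule F (Fin n → F) // finrank F W = m ∧ NdOn (Cfsg.hermForm n F q) W}) :
    ∃ l, n - m < l ∧ l ≤ n ∧ negQOrder r q ∣ l := by
  classical
  have H := Unitary.hermForm_isHerm hF n
  let T := {b : Fin m → (Fin n → F) // Orthonormal (Cfsg.hermForm n F q) b}
  have hspn : ∀ b : T, NdOn (Cfsg.hermForm n F q) (Submodule.span F (Set.range b.1)) := fun b x hx hx0 => by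
    obtain ⟨c, rfl⟩ := (Submodule.mem_span_range_iff_exists_fun F).1 hx
    refine Finset.sum_eq_zero fun j _ => ?_
    rw [← Orthonormal.coeff H b.2 c j, hx0 _ (Submodule.subset_span ⟨j, rfl⟩), zero_smul]
  let φ : T → {W : Submodule F (Fin n → F) // finrank F W = m ∧ NdOn (Cfsg.hermForm n F q) W} := fun b =>
    ⟨_, (finrank_span_eq_card (b.2.linearIndependent H)).trans (Fintype.card_fin m), hspn b⟩
  have hfib : ∀ W, Nat.card {b // φ b = W} =
      Nat.card {b : Fin m → (Fin m → F) // Orthonormal (Cfsg.hermForm m F q) b} := by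
    rintro ⟨W, hWd, hWn⟩
    subst hWd
    obtain ⟨L, hL⟩ := exists_coords hF H hWn
    refine Nat.card_congr
      { toFun := fun b => ⟨fun j => L.symm ⟨b.1.1 j, ?_⟩, ?_, ?_⟩
        invFun := fun c => ⟨⟨fun j => (L (c.1 j) : Fin n → F), ?_, ?_⟩, ?_⟩
        left_inv := fun b => Subtype.ext (Subtype.ext (funext fun j => by simp))
        right_inv := fun c => Subtype.ext (funext fun j => by simp) }
    · exact (le_of_eq (congrArg Subtype.val b.2) : Submodule.span F (Set.range b.1.1) ≤ W)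
        (Submodule.subset_span ⟨j, rfl⟩)
    · intro j
      rw [← hL, L.apply_symm_apply]
      exact b.1.2.1 j
    · intro i j hij
      show Cfsg.hermForm _ F q _ _ = 0
      rw [← hL, L.apply_symm_apply, L.apply_symm_apply]
      exact b.1.2.2 hij
    · intro j
      rw [hL]; exact c.2.1 j
    · intro i j hij
      show Cfsg.hermForm _ F q _ _ = 0
      rw [hL]; exact c.2.2 hij
    · refine Subtype.ext (Submodule.eq_of_le_of_finrank_eq (Submodule.span_le.2 ?_) (φ _).2.1)
      rintro _ ⟨j, rfl⟩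
      exact (L (c.1 j)).2
  have htot := Unitary.card_orthonormal hF n m hm
  rw [← Nat.card_congr (Equiv.sigmaFiberEquiv φ), GLOrder.card_sigma_const hfib] at htot
  have hdiv : r ∣ ∏ i ∈ Finset.range m, Unitary.normCount (n - i) q (1 : F) :=
    htot ▸ dvd_mul_of_dvd_left hdvd _
  obtain ⟨j, hj, hjd⟩ := (Nat.Prime.prime (Fact.out : r.Prime)).exists_mem_finset_dvd hdiv
  rw [Finset.mem_range] at hj
  exact ⟨n - j, by omega, Nat.sub_le _ _, dvd_normCount hF hr hjd⟩

end Count

end Cfsg.Agent.ElusiveU
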