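import Cfsg.Agent.Lib.ElusiveU.Pieces
import Cfsg.Agent.Lib.ElusiveU.Scalars
import Cfsg.Agent.Lib.Unitary.Subspaces
import Mathlib.FieldTheory.ChevalleyWarning
/-
Invariant totally isotropic subspaces of elements with a scalar prime power.
* `exists_common_zero` : few quadratic equations in many variables
* `exists_iso_cyc`, `exists_iso_nonroot` : an isotropic piece in a large invariant subspace
* `exists_iso_many`    : many isotropic pieces
* `hasIso_of_cond`     : the sufficient condition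
-/

set_option autoImplicit false
set_option linter.unusedSectionVars false
set_option linter.style.haveILetI false

namespace Cfsg.Agent.ElusiveU

open Module
open Cfsg.Agent.Unitary (IsHerm Nondeg Orthonormal)
open Cfsg.Agent.PrimeOrderElt (Inv inv_apply inv_inf inv_sup fix mem_fix inv_fix exists_minimal_invariant
  finrank_simple finrank_sup_of_inf_eq_bot exists_invariant_complement)

section Chevalley

variable {K : Type*} [Field K] [Fintype K] {W : Type*} [AddCommGroup W] [Module K W] [FiniteDimensional K W]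

/-- Few quadratic forms in many variables have a common zero. -/
theorem exists_common_zero {ι : Type*} [Fintype ι] (B : ι → W →ₗ[K] W →ₗ[K] K)
    (hB : 2 * Fintype.card ι < finrank K W) : ∃ w : W, w ≠ 0 ∧ ∀ i, B i w w = 0 := by
  classical
  obtain ⟨p, hp⟩ := CharP.exists K
  haveI : Fact p.Prime := ⟨CharP.char_is_prime K p⟩
  let e := Module.finBasis K W
  let f : ι → MvPolynomial (Fin (finrank K W)) K := fun i =>
    ∑ j, ∑ k, MvPolynomial.C (B i (e j) (e k)) * MvPolynomial.X j * MvPolynomial.X k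
  have hdeg : ∀ i, (f i).totalDegree ≤ 2 := fun i => by
    refine MvPolynomial.totalDegree_finsetSum_le fun j _ => MvPolynomial.totalDegree_finsetSum_le fun k _ => ?_
    refine (MvPolynomial.totalDegree_mul _ _).trans ?_
    refine le_trans (add_le_add (MvPolynomial.totalDegree_mul _ _) le_rfl) ?_
    simp [MvPolynomial.totalDegree_X]
  have heval : ∀ a i, MvPolynomial.eval a (f i) = B i (∑ j, a j • e j) (∑ j, a j • e j) := fun a i => by
    simp only [f, map_sum, map_mul, MvPolynomial.eval_C, MvPolynomial.eval_X, LinearMap.sum_apply, map_smul,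
      LinearMap.smul_apply, smul_eq_mul, Finset.mul_sum]
    rw [Finset.sum_comm]
    refine Finset.sum_congr rfl fun j _ => Finset.sum_congr rfl fun k _ => ?_
    ring
  have hdvd := char_dvd_card_solutions_of_sum_lt p (s := (Finset.univ : Finset ι)) (f := f)
    (lt_of_le_of_lt ((Finset.sum_le_sum fun i _ => hdeg i).trans_eq (by simp [mul_comm]))
      (hB.trans_eq (Fintype.card_fin _).symm))
  have h0 : ∀ i ∈ (Finset.univ : Finset ι), MvPolynomial.eval (0 : Fin (finrank K W) → K) (f i) = 0 :=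
    fun i _ => (heval 0 i).trans (by simp)
  have hpos := Fintype.card_pos_iff.2
    ⟨(⟨0, h0⟩ : {x : Fin (finrank K W) → K // ∀ i ∈ (Finset.univ : Finset ι), MvPolynomial.eval x (f i) = 0})⟩
  obtain ⟨⟨a, ha⟩, hne⟩ := Fintype.exists_ne_of_one_lt_card
    (lt_of_lt_of_le (Fact.out : p.Prime).one_lt (Nat.le_of_dvd hpos (by convert hdvd using 3))) ⟨0, h0⟩
  refine ⟨∑ j, a j • e j, fun h => hne (Subtype.ext (funext fun j => ?_)),
    fun i => by rw [← heval]; exact ha i (Finset.mem_univ i)⟩
  exact Fintype.linearIndependent_iff.1 e.linearIndependent a h j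

end Chevalley

variable {F : Type*} [Field F] [Fintype F] {q r : ℕ} {V : Type*} [AddCommGroup V] [Module F V]
  [FiniteDimensional F V] {h : V → V → F} {y : Module.End F V}
  (hF : Fintype.card F = q ^ 2) (H : IsHerm q h)

theorem pow_apply_scalar {z : F} (hyr : y ^ r = z • (1 : Module.End F V)) (v : V) : (y ^ r) v = z • v := by
  rw [hyr]; rfl

include hF H in
/-- A vector with few prescribed products zero. -/
theorem exists_iso_vec (J : Finset ℕ) (d : ℕ) {X : Submodule F V} (hd : 2 * J.card + d < finrank F X) :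
    ∃ v ∈ X, v ≠ 0 ∧ (0 < d → h v v = 0) ∧ ∀ j ∈ J, h ((y ^ j) v) v = 0 := by
  classical
  let K := Unitary.fixedField hF
  haveI : Fintype K := Fintype.ofFinite _
  have hK : Fintype.card K = q := by rw [← Nat.card_eq_fintype_card]; exact Unitary.card_fixedField hF
  have h2 : finrank K F = 2 := by
    have h := Module.card_eq_pow_finrank (K := K) (V := F)
    rw [hF, hK] at h
    exact (Nat.pow_right_injective (Unitary.two_le_q hF) h).symm
  let bK : Basis (Fin 2) K F := Module.finBasisOfFinrankEq K F h2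
  obtain ⟨tr, htr⟩ := (Algebra.linearMap K F).exists_leftInverse_of_injective
    (LinearMap.ker_eq_bot.2 (algebraMap K F).injective)
  let L : (Fin (finrank F X) → F) ≃ₗ[F] X := (Module.finBasis F X).equivFun.symm
  let val : (Fin (finrank F X) → F) → V := fun a => (L a : V)
  have hva : ∀ a b, val (a + b) = val a + val b := fun a b => by simp [val]
  have hvs : ∀ (c : K) a, val (c • a) = (c : F) • val a := fun c a => by
    rw [show c • a = (c : F) • a from rfl]; simp [val]
  let mkB : (F →ₗ[K] K) → ℕ → ((Fin (finrank F X) → F) →ₗ[K] (Fin (finrank F X) → F) →ₗ[K] K) :=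
    fun l j => LinearMap.mk₂ K (fun a b => l (h ((y ^ j) (val a)) (val b)))
      (fun a b c => by rw [hva, map_add, H.add_left, map_add])
      (fun c a b => by rw [hvs, map_smul, H.smul_left, ← map_smul l c]; rfl)
      (fun a b c => by rw [hva, H.add_right hF, map_add])
      (fun c a b => by rw [hvs, H.smul_right, (Unitary.mem_fixedField hF).1 c.2, ← map_smul l c]; rfl)
  let B : (↥J × Fin 2) ⊕ Fin d → ((Fin (finrank F X) → F) →ₗ[K] (Fin (finrank F X) → F) →ₗ[K] K) :=
    Sum.elim (fun i => mkB (bK.coord i.2) i.1) (fun _ => mkB tr 0)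
  obtain ⟨a, ha0, ha⟩ := exists_common_zero B (by
    rw [Fintype.card_sum, Fintype.card_prod, Fintype.card_coe, Fintype.card_fin, Fintype.card_fin,
      Module.finrank_pi_fintype, Finset.sum_const, Finset.card_univ, Fintype.card_fin, h2, smul_eq_mul]
    omega)
  refine ⟨val a, (L a).2, fun e => ha0 (L.injective (Subtype.ext (by simpa [val] using e))),
    fun hdp => ?_, fun j hj => ?_⟩
  · have h1 : tr (h (val a) (val a)) = 0 := by
      have := ha (.inr ⟨0, hdp⟩)
      simpa [B, mkB] using this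
    have hfix : h (val a) (val a) ∈ K := (Unitary.mem_fixedField hF).2 (H.conj_symm _ _).symm
    have h2 := LinearMap.congr_fun htr ⟨_, hfix⟩
    rw [LinearMap.comp_apply, LinearMap.id_apply, Algebra.linearMap_apply,
      show algebraMap K F ⟨_, hfix⟩ = h (val a) (val a) from rfl, h1] at h2
    exact (congrArg Subtype.val h2).symm
  · refine bK.ext_elem fun t => ?_
    rw [map_zero, Finsupp.zero_apply]
    have := ha (.inl (⟨j, hj⟩, t))
    simpa [B, mkB] using this

include hF H in
/-- The symmetric products vanish. -/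
theorem neg_exp_zero (hy : IsIso h y) {z : F} (hyr : y ^ r = z • (1 : Module.End F V)) {v : V} {j : ℕ}
    (hj : j ≤ r) (h0 : h ((y ^ j) v) v = 0) : h ((y ^ (r - j)) v) v = 0 := by
  rw [← hy.pow j ((y ^ (r - j)) v) v, ← Module.End.mul_apply, ← pow_add, Nat.add_sub_cancel' hj,
    pow_apply_scalar hyr, H.smul_left, (H.eq_zero_symm hF).1 h0, mul_zero]

/-- The span of the powers applied to a vector. -/
def orbitSpan (y : Module.End F V) (r : ℕ) (v : V) : Submodule F V :=
  Submodule.span F (Set.range fun j : Fin r => (y ^ (j : ℕ)) v)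

theorem orbitSpan_le {X : Submodule F V} (hX : Inv y X) {v : V} (hv : v ∈ X) : orbitSpan y r v ≤ X :=
  Submodule.span_le.2 (by rintro _ ⟨j, rfl⟩; exact PrimeOrderElt.map_pow_le hX j ⟨v, hv, rfl⟩)

include hF H in
/-- An isotropic orbit. -/
theorem orbit_iso (hr0 : 0 < r) (hy : IsIso h y) {z : F} (hyr : y ^ r = z • (1 : Module.End F V)) {v : V}
    (h0 : ∀ k < r, h ((y ^ k) v) v = 0) :
    v ∈ orbitSpan y r v ∧ Inv y (orbitSpan y r v) ∧ Iso0 h (orbitSpan y r v) := by
  refine ⟨Submodule.subset_span ⟨⟨0, hr0⟩, by simp⟩, ?_, ?_⟩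
  · refine Submodule.map_le_iff_le_comap.mpr (Submodule.span_le.mpr ?_)
    rintro _ ⟨j, rfl⟩
    show y ((y ^ (j : ℕ)) v) ∈ orbitSpan y r v
    rw [← Module.End.mul_apply, ← pow_succ']
    rcases Nat.lt_or_ge ((j : ℕ) + 1) r with h | h
    · exact Submodule.subset_span ⟨⟨_, h⟩, rfl⟩
    · rw [show (j : ℕ) + 1 = r by omega, pow_apply_scalar hyr]
      exact Submodule.smul_mem _ _ (Submodule.subset_span ⟨⟨0, hr0⟩, by simp⟩)
  · have hgen : ∀ a c : Fin r, h ((y ^ (a : ℕ)) v) ((y ^ (c : ℕ)) v) = 0 := by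
      intro a c
      rcases Nat.le_total (c : ℕ) a with hle | hle
      · obtain ⟨t, ht⟩ := Nat.exists_eq_add_of_le hle
        rw [ht, pow_add, Module.End.mul_apply, hy.pow]
        exact h0 t (by omega)
      · obtain ⟨t, ht⟩ := Nat.exists_eq_add_of_le hle
        rw [ht, pow_add, Module.End.mul_apply, hy.pow]
        exact (H.eq_zero_symm hF).1 (h0 t (by omega))
    intro u hu w hw
    obtain ⟨a, rfl⟩ := (Submodule.mem_span_range_iff_exists_fun F).1 hu
    obtain ⟨c, rfl⟩ := (Submodule.mem_span_range_iff_exists_fun F).1 hw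
    simp [H.sum_left, H.sum_right hF, H.smul_left, H.smul_right, hgen]

variable [Fact r.Prime]

include hF H in
/-- An isotropic piece in a large subspace without fixed vectors. -/
theorem exists_iso_cyc (hr : (r : F) ≠ 0) (hr2 : r ≠ 2) (hy : IsIso h y) (hyr : y ^ r = 1) {X : Submodule F V}
    (hXi : Inv y X) (hXf : X ⊓ fix y = ⊥) (hd : r - 1 < finrank F X) :
    ∃ S ≤ X, Inv y S ∧ Iso0 h S ∧ finrank F S = orderOf (Fintype.card F : ZMod r) := by
  have hodd : r % 2 = 1 := Nat.odd_iff.1 ((Fact.out : r.Prime).odd_of_ne_two hr2)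
  obtain ⟨v, hvX, hv0, -, hv⟩ := exists_iso_vec hF H (y := y) (Finset.Icc 1 ((r - 1) / 2)) 0
    (X := X) (by simp; omega)
  have hyr' : y ^ r = (1 : F) • (1 : Module.End F V) := by rw [hyr, one_smul]
  have hk : ∀ k < r, k ≠ 0 → h ((y ^ k) v) v = 0 := fun k hk hk0 => by
    by_cases hk' : k ≤ (r - 1) / 2
    · exact hv k (Finset.mem_Icc.2 ⟨by omega, hk'⟩)
    · have := neg_exp_zero hF H hy hyr' (j := r - k) (by omega)
        (hv (r - k) (Finset.mem_Icc.2 ⟨by omega, by omega⟩))
      rwa [Nat.sub_sub_self hk.le] at this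
  have hsum : ∑ k ∈ Finset.range r, (y ^ k) v = 0 := by
    have hmem : ∑ k ∈ Finset.range r, (y ^ k) v ∈ X ⊓ fix y := by
      refine ⟨X.sum_mem fun k _ => PrimeOrderElt.map_pow_le hXi k ⟨v, hvX, rfl⟩, mem_fix.2 (sub_eq_zero.1 ?_)⟩
      have := LinearMap.congr_fun (mul_geom_sum y r) v
      rw [hyr, sub_self, LinearMap.zero_apply, Module.End.mul_apply, LinearMap.sum_apply, LinearMap.sub_apply,
        Module.End.one_apply] at this
      exact this
    rwa [hXf, Submodule.mem_bot] at hmem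
  have h0 : ∀ k < r, h ((y ^ k) v) v = 0 := by
    intro k hkr
    by_cases hk0 : k = 0
    · subst hk0
      have := congrArg (fun u => h u v) hsum
      simp only [H.sum_left, H.zero_left] at this
      rwa [Finset.sum_eq_single 0 (fun j hj hj0 => hk j (Finset.mem_range.1 hj) hj0)
        (fun h => absurd (Finset.mem_range.2 hkr) h)] at this
    · exact hk k hkr hk0
  obtain ⟨hvC, hCi, hC⟩ := orbit_iso hF H (Fact.out : r.Prime).pos hy hyr' h0
  have hCX : orbitSpan y r v ≤ X := orbitSpan_le hXi hvX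
  obtain ⟨S, hSC, hSi, hS0, hmin⟩ := exists_minimal_invariant y hCi ((Submodule.ne_bot_iff _).2 ⟨v, hvC, hv0⟩)
  refine ⟨S, hSC.trans hCX, hSi, fun a ha c hc => hC a (hSC ha) c (hSC hc),
    finrank_simple hr hyr hSi hS0 hmin fun hle => hS0 (le_bot_iff.1 ?_)⟩
  exact (le_inf (hSC.trans hCX) hle).trans hXf.le

include hF H in
/-- An isotropic piece for a non-power. -/
theorem exists_iso_nonroot (hr2 : r ≠ 2) (hy : IsIso h y) {z : F} (hz : ∀ b : F, b ^ r ≠ z)
    (hyr : y ^ r = z • (1 : Module.End F V)) {X : Submodule F V}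
    (hXi : Inv y X) (hd : r < finrank F X) :
    ∃ S ≤ X, Inv y S ∧ Iso0 h S ∧ finrank F S = r := by
  have hodd : r % 2 = 1 := Nat.odd_iff.1 ((Fact.out : r.Prime).odd_of_ne_two hr2)
  obtain ⟨v, hvX, hv0, hvv, hv⟩ := exists_iso_vec hF H (y := y) (Finset.Icc 1 ((r - 1) / 2)) 1
    (X := X) (by simp; omega)
  have h0 : ∀ k < r, h ((y ^ k) v) v = 0 := fun k hk => by
    rcases Nat.eq_zero_or_pos k with rfl | hk0
    · simpa using hvv one_pos
    by_cases hk' : k ≤ (r - 1) / 2
    · exact hv k (Finset.mem_Icc.2 ⟨by omega, hk'⟩)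
    · have := neg_exp_zero hF H hy hyr (j := r - k) (by omega)
        (hv (r - k) (Finset.mem_Icc.2 ⟨by omega, by omega⟩))
      rwa [Nat.sub_sub_self hk.le] at this
  obtain ⟨hvC, hCi, hC⟩ := orbit_iso hF H (Fact.out : r.Prime).pos hy hyr h0
  refine ⟨_, orbitSpan_le hXi hvX, hCi, hC, le_antisymm ((finrank_range_le_card _).trans_eq (Fintype.card_fin r)) ?_⟩
  refine Nat.le_of_dvd (Nat.pos_of_ne_zero fun e => hv0 ?_)
    (PrimeOrderElt.dvd_finrank_of_nonpower Fact.out hz hyr hCi)
  have := Submodule.finrank_eq_zero.1 e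
  rw [this, Submodule.mem_bot] at hvC
  exact hvC

include hF H in
/-- An invariant non-degenerate subspace around an isotropic one, of at most twice its dimension. -/
theorem exists_partner (hr : (r : F) ≠ 0) (hnd : Nondeg h) (hy : IsIso h y) {z : F} (hz : z ≠ 0)
    (hyr : y ^ r = z • (1 : Module.End F V)) {X S : Submodule F V} (hXi : Inv y X) (hX : NdOn h X)
    (hSi : Inv y S) (hSX : S ≤ X) (hS : Iso0 h S) :
    ∃ Y, S ≤ Y ∧ Y ≤ X ∧ Inv y Y ∧ NdOn h Y ∧ finrank F Y ≤ 2 * finrank F S := by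
  classical
  set T := X ⊓ orth H S with hT
  obtain ⟨C, hCi, hCX, hdis, hsup⟩ := exists_invariant_complement hr hz hyr hXi
    (inv_inf hXi (inv_orth H hnd hy hSi)) (inf_le_left : T ≤ X)
  let bs := Module.finBasis F S
  let φ : C →ₗ[F] (Fin (finrank F S) → F) :=
    { toFun := fun v j => h (v : V) (bs j : V)
      map_add' := fun u v => funext fun j => H.add_left _ _ _
      map_smul' := fun c v => funext fun j => H.smul_left _ _ _ }
  have hφ : Function.Injective φ := by
    rw [injective_iff_map_eq_zero]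
    intro v hv
    have hmem : (v : V) ∈ T ⊓ C := by
      refine ⟨⟨hCX v.2, fun s hs => ?_⟩, v.2⟩
      have hs' : s = ∑ j, bs.repr ⟨s, hs⟩ j • (bs j : V) := by
        have := congrArg (Subtype.val : S → V) (bs.sum_repr ⟨s, hs⟩)
        simp only [Submodule.coe_sum, Submodule.coe_smul] at this
        exact this.symm
      rw [hs', H.sum_right hF, Finset.sum_eq_zero]
      intro j _
      rw [H.smul_right, show h (v : V) (bs j : V) = 0 from congrFun hv j, mul_zero]
    rw [hdis, Submodule.mem_bot] at hmem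
    exact Subtype.ext hmem
  have hCd : finrank F C ≤ finrank F S :=
    (LinearMap.finrank_le_finrank_of_injective hφ).trans_eq (Module.finrank_fin_fun F)
  refine ⟨S ⊔ C, le_sup_left, sup_le hSX hCX, inv_sup hSi hCi, fun v hv hv0 => ?_,
    (Submodule.finrank_add_le_finrank_add_finrank S C).trans (by omega)⟩
  obtain ⟨s, hs, s', hs', rfl⟩ := Submodule.mem_sup.1 hv
  have hs'0 : s' = 0 := by
    have hmem : s' ∈ T ⊓ C := by
      refine ⟨⟨hCX hs', fun t ht => ?_⟩, hs'⟩
      have := hv0 t (Submodule.mem_sup_left ht)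
      rwa [H.add_left, hS s hs t ht, zero_add] at this
    rwa [hdis, Submodule.mem_bot] at hmem
  subst hs'0
  rw [add_zero] at hv0 ⊢
  refine hX s (hSX hs) fun x hx => ?_
  rw [← hsup] at hx
  obtain ⟨t, ht, t', ht', rfl⟩ := Submodule.mem_sup.1 hx
  rw [H.add_right hF, hv0 t' (Submodule.mem_sup_right ht'), mem_orth_symm hF H ht.2 hs, add_zero]

include hF H in
/-- Many isotropic pieces. -/
theorem exists_iso_many (hr : (r : F) ≠ 0) (hnd : Nondeg h) (hy : IsIso h y) {z : F} (hz : z ≠ 0)
    (hyr : y ^ r = z • (1 : Module.End F V)) {d T : ℕ} (P : Submodule F V → Prop)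
    (hP : ∀ X Y, P X → Y ≤ X → P Y)
    (find : ∀ X, P X → Inv y X → NdOn h X → T < finrank F X →
      ∃ S ≤ X, Inv y S ∧ Iso0 h S ∧ finrank F S = d) :
    ∀ k X, P X → Inv y X → NdOn h X → (k = 0 ∨ 2 * (k - 1) * d + T < finrank F X) →
      ∃ W ≤ X, Inv y W ∧ Iso0 h W ∧ finrank F W = k * d := by
  intro k
  induction k with
  | zero =>
    intro X _ _ _ _
    exact ⟨⊥, bot_le, (Submodule.map_bot y).le, iso0_bot H, by rw [finrank_bot, zero_mul]⟩
  | succ k ih =>
    intro X hPX hXi hX hk
    replace hk := hk.resolve_left (Nat.succ_ne_zero k)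
    rw [Nat.add_sub_cancel] at hk
    obtain ⟨S, hSX, hSi, hS, hSd⟩ := find X hPX hXi hX (by omega)
    obtain ⟨Y, hSY, hYX, hYi, hY, hYd⟩ := exists_partner hF H hr hnd hy hz hyr hXi hX hSi hSX hS
    have hd := finrank_inf_orth hF H hY hYX
    obtain ⟨W, hWX, hWi, hW, hWd⟩ := ih (X ⊓ orth H Y) (hP X _ hPX inf_le_left)
      (inv_inf hXi (inv_orth H hnd hy hYi)) (ndOn_inf_orth hF H hX hY hYX) (by
        rcases k with _ | j
        · exact .inl rfl
        · refine .inr ?_
          rw [Nat.add_sub_cancel]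
          rw [show 2 * (j + 1) * d = 2 * j * d + 2 * d by ring] at hk
          omega)
    refine ⟨S ⊔ W, sup_le hSX (hWX.trans inf_le_left), inv_sup hSi hWi, ?_, ?_⟩
    · intro u hu w hw
      obtain ⟨a, ha, b, hb, rfl⟩ := Submodule.mem_sup.1 hu
      obtain ⟨a', ha', b', hb', rfl⟩ := Submodule.mem_sup.1 hw
      rw [H.add_left, H.add_right hF, H.add_right hF, hS a ha a' ha', hW b hb b' hb',
        mem_orth_symm hF H (hWX hb').2 (hSY ha), (hWX hb).2 a' (hSY ha')]
      simp
    · rw [finrank_sup_of_inf_eq_bot (le_bot_iff.1 ?_), hSd, hWd, Nat.succ_mul, add_comm]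
      exact (inf_le_inf hSY (hWX.trans inf_le_right)).trans (disjoint_orth hF H hY).le

include hF H in
/-- A totally isotropic subspace is at most half. -/
theorem iso_le_half {X W : Submodule F V} (hX : NdOn h X) (hWX : W ≤ X) (hW : Iso0 h W) :
    2 * finrank F W ≤ finrank F X := by
  obtain ⟨C, hC⟩ := exists_isCompl (W.comap X.subtype)
  have hsum := Submodule.finrank_add_eq_of_isCompl hC
  rw [(Submodule.comapSubtypeEquivOfLe hWX).finrank_eq] at hsum
  let bc := Module.finBasis F C
  let φ : W →ₗ[F] (Fin (finrank F C) → F) :=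
    { toFun := fun v j => h (v : V) ((bc j : X) : V)
      map_add' := fun u v => funext fun j => H.add_left _ _ _
      map_smul' := fun c v => funext fun j => H.smul_left _ _ _ }
  have hφ : Function.Injective φ := by
    rw [injective_iff_map_eq_zero]
    intro v hv
    refine Subtype.ext (hX v (hWX v.2) fun x hx => ?_)
    have hmem : (⟨x, hx⟩ : X) ∈ W.comap X.subtype ⊔ C := by rw [hC.sup_eq_top]; trivial
    obtain ⟨a, ha, c, hc, hac⟩ := Submodule.mem_sup.1 hmem
    have hc' : (c : V) = ∑ j, bc.repr ⟨c, hc⟩ j • ((bc j : X) : V) := by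
      have := congrArg (fun u : C => ((u : X) : V)) (bc.sum_repr ⟨c, hc⟩)
      simp only [Submodule.coe_sum, Submodule.coe_smul] at this
      exact this.symm
    rw [show x = (a : V) + (c : V) from (congrArg Subtype.val hac).symm, H.add_right hF,
      hW v v.2 a ha, hc', H.sum_right hF, Finset.sum_eq_zero, add_zero]
    intro j _
    rw [H.smul_right, show h (v : V) ((bc j : X) : V) = 0 from congrFun hv j, mul_zero]
  have := (LinearMap.finrank_le_finrank_of_injective hφ).trans_eq (Module.finrank_fin_fun F)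
  omega

include hF H in
/-- Totally isotropic subspaces of a non-degenerate subspace. -/
theorem exists_iso_in {X : Submodule F V} (hX : NdOn h X) {j : ℕ} (hj : 2 * j ≤ finrank F X) :
    ∃ W ≤ X, Iso0 h W ∧ finrank F W = j := by
  obtain ⟨L, hL⟩ := exists_coords hF H hX
  obtain ⟨w, hw, hwo⟩ := Unitary.exists_isTI hF hj
  refine ⟨(Submodule.span F (Set.range w)).map (X.subtype ∘ₗ L.toLinearMap), ?_, ?_, ?_⟩
  · rintro _ ⟨a, -, rfl⟩; exact (L a).2
  · rintro _ ⟨a, ha, rfl⟩ _ ⟨c, hc, rfl⟩
    obtain ⟨s, rfl⟩ := (Submodule.mem_span_range_iff_exists_fun F).1 ha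
    obtain ⟨t, rfl⟩ := (Submodule.mem_span_range_iff_exists_fun F).1 hc
    refine (hL _ _).trans ?_
    have H' := Unitary.hermForm_isHerm hF (finrank F X)
    simp [H'.sum_left, H'.sum_right hF, H'.smul_left, H'.smul_right, hwo]
  · rw [← (Submodule.equivMapOfInjective (X.subtype ∘ₗ L.toLinearMap)
        (X.injective_subtype.comp L.injective) _).finrank_eq, finrank_span_eq_card hw, Fintype.card_fin]

theorem inv_of_le_fix {W : Submodule F V} (hW : W ≤ fix y) : Inv y W := by
  rintro _ ⟨v, hv, rfl⟩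
  rw [mem_fix.1 (hW hv)]
  exact hv

include hF H in
/-- The sufficient condition. -/
theorem hasIso_of_cond (hr : (r : F) ≠ 0) (hnd : Nondeg h) (hy : IsIso h y) (hyr : y ^ r = 1) {n m T : ℕ}
    (hn : finrank F V = n)
    (find : ∀ X : Submodule F V, X ⊓ fix y = ⊥ → Inv y X → NdOn h X → T < finrank F X →
      ∃ S ≤ X, Inv y S ∧ Iso0 h S ∧ finrank F S = orderOf (Fintype.card F : ZMod r))
    (hk : ∀ f R : ℕ, f + R = n → negQOrder r q ∣ R →
      ∃ k, k * orderOf (Fintype.card F : ZMod r) ≤ m ∧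
        2 * (m - k * orderOf (Fintype.card F : ZMod r)) ≤ f ∧
        (k = 0 ∨ 2 * (k - 1) * orderOf (Fintype.card F : ZMod r) + T < R)) :
    HasIso h y m := by
  classical
  obtain ⟨-, hTf, hTi, -, hTd⟩ := split_fix hr hyr (W := (⊤ : Submodule F V)) le_top
  have hRn := ndOn_map hF H hr hy hyr le_top (ndOn_top hnd)
  obtain ⟨N, hN, -⟩ := exists_range_pieces hF H hr hnd hy hyr _ hTi hRn hTf
  rw [top_inf_eq, finrank_top, hn] at hTd
  obtain ⟨k, hkm, hkf, hkR⟩ := hk _ _ hTd ⟨N, by rw [hN, mul_comm]⟩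
  obtain ⟨W, hW, hWi, hWo, hWd⟩ := exists_iso_many hF H hr hnd hy one_ne_zero
    (show y ^ r = (1 : F) • (1 : Module.End F V) by rw [hyr, one_smul]) (fun X => X ⊓ fix y = ⊥)
    (fun _ Y hU hY => le_bot_iff.1 ((inf_le_inf_right _ hY).trans hU.le)) find k _ hTf hTi hRn hkR
  obtain ⟨U, hU, hUo, hUd⟩ := exists_iso_in hF H (ndOn_fix hF H hr hnd hy hyr) hkf
  have ho : ∀ u ∈ U, ∀ w ∈ W, h w u = 0 := fun u hu w hw =>
    range_le_orth_fix hF H hy (LinearMap.map_le_range (hW hw)) u (hU hu)
  refine ⟨U ⊔ W, ?_, ?_, inv_sup (inv_of_le_fix hU) hWi⟩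
  · rw [finrank_sup_of_inf_eq_bot (le_bot_iff.1 ((inf_le_inf hU hW).trans ?_)), hUd, hWd]
    · omega
    · rw [inf_comm]; exact hTf.le
  · intro a ha c hc
    obtain ⟨u, hu, w, hw, rfl⟩ := Submodule.mem_sup.1 ha
    obtain ⟨u', hu', w', hw', rfl⟩ := Submodule.mem_sup.1 hc
    rw [H.add_left, H.add_right hF, H.add_right hF, hUo u hu u' hu', hWo w hw w' hw', ho u' hu' w hw,
      (H.eq_zero_symm hF).1 (ho u hu w' hw')]
    simp

include hF H in
/-- The dimensions of invariant totally isotropic subspaces. -/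
theorem finrank_of_hasIso (hr : (r : F) ≠ 0) (hnd : Nondeg h) (hy : IsIso h y) (hyr : y ^ r = 1) {m : ℕ}
    (hm : HasIso h y m) :
    ∃ j k, m = j + k * orderOf (Fintype.card F : ZMod r) ∧ 2 * j ≤ finrank F ↥(fix y) := by
  obtain ⟨W, rfl, hW, hWi⟩ := hm
  obtain ⟨k, hk, -⟩ := PrimeOrderElt.exists_dims hr hyr hWi
  exact ⟨_, k, hk, iso_le_half hF H (ndOn_fix hF H hr hnd hy hyr) inf_le_right
    fun a ha c hc => hW a ha.1 c hc.1⟩

end Cfsg.Agent.ElusiveU
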