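import Cfsg.Agent.Lib.ElusiveU.Criteria
import Cfsg.Agent.Lib.ElusiveU.Isotropic
/-
Witnesses with few invariant totally isotropic subspaces, and their number.
* `no_iso_blocks`  : powers of one block in different classes give no isotropic piece
* `diag_iso_le`    : diagonal maps and coordinates with simple eigenvalues
* `count_ti`       : the number of totally isotropic subspaces
-/

set_option autoImplicit false
set_option linter.unusedSectionVars false
set_option linter.style.haveILetI false

namespace Cfsg.Agent.ElusiveU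

open Module Polynomial
open Cfsg.Agent.Unitary (IsHerm Nondeg IsUnitary)
open Cfsg.Agent.PrimeOrderElt (Inv inv_apply inv_inf inv_sup fix mem_fix exists_dims)

section Blocks

variable {F : Type*} [Field F] [Fintype F] {r : ℕ} [Fact r.Prime] {W : Type*} [AddCommGroup W] [Module F W]
  [FiniteDimensional F W]

/-- The polynomial of a simple block, with its conjugates. -/
theorem exists_block_poly (hr : (r : F) ≠ 0) {g : Module.End F W} (hgr : g ^ r = 1) (hgf : fix g = ⊥)
    (hd : finrank F W = orderOf (Fintype.card F : ZMod r)) :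
    (∀ U : Submodule F W, Inv g U → U = ⊥ ∨ U = ⊤) ∧
    ∃ f0 : F[X], aeval g f0 = 0 ∧
      ∀ t : ℕ, (∀ s, (t : ZMod r) ≠ (Fintype.card F : ZMod r) ^ s) → Function.Injective (aeval (g ^ t) f0) := by
  classical
  set b := orderOf (Fintype.card F : ZMod r) with hb
  have hbpos : 0 < b := PrimeOrderElt.orderOf_card_pos hr
  have hsimple : ∀ U : Submodule F W, Inv g U → U = ⊥ ∨ U = ⊤ := by
    intro U hU
    obtain ⟨s, hs, -⟩ := exists_dims hr hgr hU
    rw [hgf, inf_bot_eq, finrank_bot, zero_add, ← hb] at hs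
    rcases Nat.eq_zero_or_pos s with rfl | hs0
    · exact .inl (Submodule.finrank_eq_zero.1 (hs.trans (zero_mul b)))
    · refine .inr (Submodule.eq_top_of_finrank_eq (le_antisymm (Submodule.finrank_le U) ?_))
      rw [hd, hs]
      exact Nat.le_mul_of_pos_left b hs0
  refine ⟨hsimple, ?_⟩
  haveI : Nontrivial W := Module.nontrivial_of_finrank_pos (R := F) (by omega)
  obtain ⟨w, hw⟩ := exists_ne (0 : W)
  have hkerInv : ∀ P : F[X], Inv g (LinearMap.ker (aeval g P)) := fun P => by
    rintro _ ⟨v, hv, rfl⟩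
    have h := aeval_comm g P Polynomial.X v
    rw [aeval_X, LinearMap.mem_ker.1 hv, map_zero] at h
    exact LinearMap.mem_ker.2 h
  have hint : IsIntegral F g := IsIntegral.of_finite F g
  have hirr : Irreducible (minpoly F g) := by
    refine ⟨minpoly.not_isUnit F g, fun P Q hPQ => ?_⟩
    have hP0 : P ≠ 0 := fun e => minpoly.ne_zero hint (by rw [hPQ, e, zero_mul])
    have hQ0 : Q ≠ 0 := fun e => minpoly.ne_zero hint (by rw [hPQ, e, mul_zero])
    have hdeg : (minpoly F g).natDegree = P.natDegree + Q.natDegree := by rw [hPQ, natDegree_mul hP0 hQ0]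
    rcases hsimple _ (hkerInv P) with h0 | htop
    · have hQ : aeval g Q = 0 := LinearMap.ext fun v => by
        have h : aeval g P (aeval g Q v) = 0 := by
          rw [← Module.End.mul_apply, ← map_mul, ← hPQ, minpoly.aeval]; rfl
        have hm : aeval g Q v ∈ LinearMap.ker (aeval g P) := LinearMap.mem_ker.2 h
        rw [h0, Submodule.mem_bot] at hm
        exact hm
      have := natDegree_le_of_dvd (minpoly.dvd F g hQ) hQ0
      exact .inl (isUnit_iff_degree_eq_zero.2 (by rw [degree_eq_natDegree hP0]; norm_cast; omega))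
    · have := natDegree_le_of_dvd (minpoly.dvd F g (LinearMap.ker_eq_top.1 htop)) hP0
      exact .inr (isUnit_iff_degree_eq_zero.2 (by rw [degree_eq_natDegree hQ0]; norm_cast; omega))
  set f0 := minpoly F g with hf0
  set w' : LinearMap.ker (aeval g f0) :=
    ⟨w, LinearMap.mem_ker.2 (by rw [hf0, minpoly.aeval]; rfl)⟩ with hw'def
  have hw' : w' ≠ 0 := fun e => hw (congrArg Subtype.val e)
  have hrange : LinearMap.range (Elusive.orbit g f0 w') = ⊤ := by
    refine (hsimple _ (Elusive.inv_orbit f0 w')).resolve_left fun e => hw ?_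
    have hm : Elusive.orbit g f0 w' 1 ∈ LinearMap.range (Elusive.orbit g f0 w') := ⟨1, rfl⟩
    rw [e, Submodule.mem_bot, Elusive.orbit_apply, map_one] at hm
    exact hm
  haveI := Fact.mk hirr
  have hdeg : f0.natDegree = b := by
    have h := LinearMap.finrank_range_of_inj (Elusive.orbit_injective hirr hw' (y := g))
    rw [hrange, finrank_top, hd, (AdjoinRoot.powerBasis hirr.ne_zero).finrank, AdjoinRoot.powerBasis_dim] at h
    exact h.symm
  have hcyc : aeval g (Elusive.cyc F r) = 0 := LinearMap.ext fun v => by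
    have hm : aeval g (Elusive.cyc F r) v ∈ fix g := by
      rw [mem_fix]
      have h1 := congrArg (fun P => aeval g P v) (mul_geom_sum (X : F[X]) r)
      simp only [map_mul, map_sub, aeval_X, map_one, map_pow, hgr, sub_self, LinearMap.zero_apply,
        Module.End.mul_apply, LinearMap.sub_apply, Module.End.one_apply] at h1
      exact sub_eq_zero.1 h1
    rw [hgf, Submodule.mem_bot] at hm
    exact hm
  have hT : Elusive.IsType r f0 := ⟨minpoly.monic hint, hirr, hdeg.trans hb, minpoly.dvd F g hcyc⟩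
  refine ⟨f0, minpoly.aeval F g, fun t ht => ?_⟩
  have hcomp : aeval g (f0.comp (X ^ t)) = aeval (g ^ t) f0 := by rw [aeval_comp, map_pow, aeval_X]
  rw [← LinearMap.ker_eq_bot, ← hcomp]
  refine (hsimple _ (hkerInv _)).resolve_right fun htop => ?_
  have hroot : aeval (AdjoinRoot.root f0 ^ t) f0 = 0 := by
    rw [show aeval (AdjoinRoot.root f0 ^ t) f0 = AdjoinRoot.mk f0 (f0.comp (X ^ t)) by
      rw [← AdjoinRoot.aeval_eq, aeval_comp, map_pow, aeval_X]]
    refine Elusive.orbit_injective hirr hw' ?_
    rw [map_zero, Elusive.orbit_apply, Elusive.act_coe, LinearMap.ker_eq_top.1 htop]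
    rfl
  obtain ⟨s, hs⟩ := hT.root_eq hr hroot
  rw [Elusive.pow_eq_iff (hT.orderOf_root hr), Nat.cast_pow] at hs
  exact ht s hs

variable {q f u : ℕ}

/-- Powers of one block in different classes: isotropic invariant subspaces are fixed. -/
theorem no_iso_blocks (hF : Fintype.card F = q ^ 2) (hr : (r : F) ≠ 0) {c : ℕ}
    (hc : c = orderOf (Fintype.card F : ZMod r)) {g : Module.End F (Fin c → F)} (hgr : g ^ r = 1)
    (hgf : fix g = ⊥) {e : Fin u → ℕ} (he : ∀ j, ¬ r ∣ e j)
    (hsep : ∀ j k s, (e k : ZMod r) = e j * (Fintype.card F : ZMod r) ^ s → j = k)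
    {U : Submodule F ((Fin f → F) × (Fin u → (Fin c → F)))}
    (hUi : Inv (Elusive.blockMap (Fin f → F) g e) U) (hU : Iso0 (sumForm q f u c) U) :
    U ≤ fix (Elusive.blockMap (Fin f → F) g e) := by
  classical
  obtain ⟨hsimple, f0, hf0, hinj⟩ := exists_block_poly hr hgr hgf ((Module.finrank_fin_fun F).trans hc)
  choose a ha using fun j => Nat.exists_mul_mod_eq_one_of_coprime
    (((Fact.out : r.Prime).coprime_iff_not_dvd.2 (he j)).symm) (Fact.out : r.Prime).one_lt
  set y := Elusive.blockMap (Fin f → F) g e with hy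
  have hcomp : ∀ j (t : ℕ), aeval (g ^ e j) (f0.comp (X ^ t)) = aeval (g ^ (e j * t)) f0 := fun j t => by
    rw [aeval_comp, map_pow, aeval_X, ← pow_mul]
  intro w hw
  suffices hz : ∀ j, w.2 j = 0 by
    rw [mem_fix, hy, Elusive.blockMap_apply]
    exact Prod.ext rfl (funext fun j => by show (g ^ e j) (w.2 j) = w.2 j; rw [hz j, map_zero])
  intro j
  have hga : g ^ (e j * a j) = g := by
    rw [← Nat.div_add_mod (e j * a j) r, (ha j).2, pow_add, pow_mul, hgr, one_pow, one_mul, pow_one]
  set Q : F[X] := (X - 1) * ∏ k ∈ Finset.univ.erase j, f0.comp (X ^ a k) with hQ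
  have hother : ∀ k ≠ j, aeval (g ^ e k) Q = 0 := by
    intro k hk
    rw [hQ, ← Finset.mul_prod_erase _ _ (Finset.mem_erase.2 ⟨hk, Finset.mem_univ k⟩), ← mul_assoc,
      mul_comm (X - 1 : F[X]), mul_assoc, map_mul]
    have : g ^ (e k * a k) = g := by
      rw [← Nat.div_add_mod (e k * a k) r, (ha k).2, pow_add, pow_mul, hgr, one_pow, one_mul, pow_one]
    rw [hcomp, this, hf0, zero_mul]
  have hinjQ : Function.Injective (aeval (g ^ e j) Q) := by
    have hprod : ∀ s : Finset (Fin u), j ∉ s →
        Function.Injective (aeval (g ^ e j) (∏ k ∈ s, f0.comp (X ^ a k))) := by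
      intro s
      induction s using Finset.induction_on with
      | empty => intro _; rw [Finset.prod_empty, map_one]; exact fun x y h => h
      | insert k s hks ih =>
        intro hj
        rw [Finset.mem_insert, not_or] at hj
        rw [Finset.prod_insert hks, map_mul, Module.End.mul_eq_comp, LinearMap.coe_comp]
        refine Function.Injective.comp ?_ (ih hj.2)
        rw [hcomp]
        refine hinj _ fun t ht => hj.1 (hsep j k (0 + (r * orderOf (Fintype.card F : ZMod r) - 1) * t) ?_)
        push_cast at ht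
        have hek : (e k : ZMod r) * a k = 1 := by
          rw [← Nat.cast_mul, ← ZMod.natCast_mod, (ha k).2, Nat.cast_one]
        set Qc := (Fintype.card F : ZMod r)
        have hQt : Qc ^ (0 + (r * orderOf Qc - 1) * t) * Qc ^ t = 1 := by
          have h1 : 1 ≤ r * orderOf Qc :=
            Nat.mul_pos (Fact.out : r.Prime).pos (PrimeOrderElt.orderOf_card_pos hr)
          rw [← pow_add, zero_add, ← Nat.succ_mul, Nat.succ_eq_add_one, Nat.sub_add_cancel h1,
            mul_assoc, mul_comm r, pow_mul, pow_mul, pow_orderOf_eq_one, one_pow, one_pow]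
        linear_combination -(e k : ZMod r) * Qc ^ (0 + (r * orderOf Qc - 1) * t) * ht
          + (e j : ZMod r) * Qc ^ (0 + (r * orderOf Qc - 1) * t) * hek - (e k : ZMod r) * hQt
    rw [hQ, map_mul, Module.End.mul_eq_comp, LinearMap.coe_comp]
    refine Function.Injective.comp ?_ (hprod _ (Finset.notMem_erase _ _))
    rw [injective_iff_map_eq_zero]
    intro v hv
    rw [map_sub, aeval_X, map_one, LinearMap.sub_apply, Module.End.one_apply, sub_eq_zero] at hv
    exact Elusive.pow_fixed_free hgr hgf (he j) hv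
  -- the part of `U` in the block
  let ι : (Fin c → F) →ₗ[F] (Fin f → F) × (Fin u → (Fin c → F)) :=
    (LinearMap.inr F _ _).comp (LinearMap.single F (fun _ : Fin u => Fin c → F) j)
  have hι : aeval y Q w = ι (aeval (g ^ e j) Q (w.2 j)) := by
    refine Prod.ext ?_ (funext fun k => ?_)
    · rw [hQ, map_mul, Module.End.mul_apply, map_sub, aeval_X, map_one, LinearMap.sub_apply, Module.End.one_apply,
        hy, Elusive.blockMap_apply]
      exact sub_self _
    · show Elusive.blockProj (F := F) (W := Fin c → F) (Fin f → F) k (aeval y Q w) = _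
      rw [hy, Elusive.blockProj_aeval]
      show aeval (g ^ e k) Q (w.2 k) = Pi.single (M := fun _ => Fin c → F) j (aeval (g ^ e j) Q (w.2 j)) k
      rcases eq_or_ne k j with rfl | hk
      · rw [Pi.single_eq_same]
      · rw [Pi.single_eq_of_ne hk, hother k hk]; rfl
  have hpart : U.comap ι = ⊥ := by
    refine (hsimple _ ?_).resolve_right fun htop => ?_
    · rintro _ ⟨v, hv, rfl⟩
      have hv' : (y ^ a j) (ι v) ∈ U := PrimeOrderElt.map_pow_le hUi (a j) ⟨_, hv, rfl⟩
      show ι (g v) ∈ U
      convert hv' using 1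
      rw [hy, Elusive.blockMap_pow]
      refine Prod.ext rfl (funext fun k => ?_)
      show Pi.single (M := fun _ => Fin c → F) j (g v) k =
        (g ^ (e k * a j)) (Pi.single (M := fun _ => Fin c → F) j v k)
      rcases eq_or_ne k j with rfl | hk
      · rw [Pi.single_eq_same, Pi.single_eq_same, hga]
      · rw [Pi.single_eq_of_ne hk, Pi.single_eq_of_ne hk, map_zero]
    · have hall : ∀ v v' : Fin c → F, Cfsg.hermForm c F q v v' = 0 := fun v v' => by
        have h := hU (ι v) (by rw [← Submodule.mem_comap, htop]; trivial)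
          (ι v') (by rw [← Submodule.mem_comap, htop]; trivial)
        rw [sumForm, Finset.sum_eq_single j (fun k _ hk => by
          show Cfsg.hermForm c F q (Pi.single (M := fun _ => Fin c → F) j v k) _ = 0
          rw [Pi.single_eq_of_ne hk, (Unitary.hermForm_isHerm hF c).zero_left])
          (fun h => absurd (Finset.mem_univ j) h)] at h
        have h' : Cfsg.hermForm f F q 0 0 + Cfsg.hermForm c F q (Pi.single (M := fun _ => Fin c → F) j v j)
            (Pi.single (M := fun _ => Fin c → F) j v' j) = 0 := h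
        rwa [(Unitary.hermForm_isHerm hF f).zero_left, zero_add, Pi.single_eq_same, Pi.single_eq_same] at h'
      have hcpos : 0 < c := hc ▸ PrimeOrderElt.orderOf_card_pos hr
      have := Unitary.hermForm_nondeg hF c (Pi.single ⟨0, hcpos⟩ (1 : F)) fun v => hall _ v
      simpa using congrFun this ⟨0, hcpos⟩
  have hmem : aeval (g ^ e j) Q (w.2 j) ∈ U.comap ι := by
    rw [Submodule.mem_comap, ← hι]
    exact aeval_mem hUi Q w hw
  rw [hpart, Submodule.mem_bot] at hmem
  exact hinjQ (hmem.trans (map_zero _).symm)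

end Blocks

section Diag

variable {F : Type*} [Field F] [Fintype F] {q n : ℕ} (hF : Fintype.card F = q ^ 2)

theorem diag_aeval (d : Fin n → F) (P : F[X]) (v : Fin n → F) (k : Fin n) :
    aeval (Matrix.toLin' (Matrix.diagonal d) : Module.End F (Fin n → F)) P v k = P.eval (d k) * v k := by
  induction P using Polynomial.induction_on' with
  | add P Q hP hQ => rw [map_add, LinearMap.add_apply, Pi.add_apply, hP, hQ, eval_add, add_mul]
  | monomial i a =>
    rw [aeval_monomial, Module.End.mul_apply, Module.algebraMap_end_apply, Pi.smul_apply,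
      ← PrimeOrderElt.pow_toLin', Matrix.diagonal_pow, Matrix.toLin'_apply, Matrix.mulVec_diagonal,
      eval_monomial, smul_eq_mul, Pi.pow_apply, mul_assoc]

include hF in
/-- Coordinates with simple eigenvalues do not meet isotropic invariant subspaces. -/
theorem diag_iso_le (d : Fin n → F) (T : Finset (Fin n)) (hT : ∀ i ∈ T, ∀ k, d k = d i → k = i) {m : ℕ}
    (hm : HasIso (Cfsg.hermForm n F q) (Matrix.toLin' (Matrix.diagonal d)) m) : 2 * m + T.card ≤ n := by
  classical
  obtain ⟨W, rfl, hW, hWi⟩ := hm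
  have H := Unitary.hermForm_isHerm hF n
  have hzero : ∀ v ∈ W, ∀ i ∈ T, v i = 0 := by
    intro v hv i hi
    set Q : F[X] := ∏ t ∈ (Finset.univ.image d).erase (d i), (X - C t) with hQ
    have hQv : aeval (Matrix.toLin' (Matrix.diagonal d) : Module.End F (Fin n → F)) Q v =
        Pi.single i (Q.eval (d i) * v i) := by
      funext k
      rw [diag_aeval]
      rcases eq_or_ne k i with rfl | hk
      · rw [Pi.single_eq_same]
      · rw [Pi.single_eq_of_ne hk, hQ, eval_prod, Finset.prod_eq_zero
          (Finset.mem_erase.2 ⟨fun e => hk (hT i hi k e), Finset.mem_image_of_mem d (Finset.mem_univ k)⟩)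
          (by simp), zero_mul]
    have hmem : Pi.single i (Q.eval (d i) * v i) ∈ W := hQv ▸ aeval_mem hWi Q v hv
    have h := hW _ hmem _ hmem
    rw [Cfsg.hermForm, Finset.sum_eq_single i (fun k _ hk => by simp [Pi.single_eq_of_ne hk])
      (fun h => absurd (Finset.mem_univ i) h), Pi.single_eq_same, ← pow_succ', pow_eq_zero_iff (by omega),
      mul_eq_zero] at h
    refine h.resolve_left ?_
    rw [hQ, eval_prod]
    refine Finset.prod_ne_zero_iff.2 fun t ht => ?_
    simp only [eval_sub, eval_X, eval_C]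
    exact sub_ne_zero.2 (Ne.symm (Finset.ne_of_mem_erase ht))
  let e := Tᶜ.equivFin.symm
  let φ : (Fin n → F) →ₗ[F] (Fin Tᶜ.card → F) := LinearMap.funLeft F F fun j => (e j : Fin n)
  have hform : ∀ v ∈ W, ∀ w, Cfsg.hermForm _ F q (φ v) (φ w) = Cfsg.hermForm n F q v w := by
    intro v hv w
    rw [Cfsg.hermForm, Cfsg.hermForm, ← Finset.sum_subset (Finset.subset_univ Tᶜ) fun i _ hi => by
      rw [hzero v hv i (by simpa using hi), zero_mul], ← Finset.sum_coe_sort Tᶜ]
    exact Fintype.sum_equiv e _ _ fun j => rfl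
  have hinj : Function.Injective (φ ∘ₗ W.subtype) := by
    rw [injective_iff_map_eq_zero]
    intro v hv
    refine Subtype.ext (funext fun i => ?_)
    by_cases hi : i ∈ T
    · exact hzero v v.2 i hi
    · have h := congrFun hv (e.symm ⟨i, Finset.mem_compl.2 hi⟩)
      simpa [φ, LinearMap.funLeft] using h
  have h := iso_le_half hF (Unitary.hermForm_isHerm hF Tᶜ.card) (ndOn_top (Unitary.hermForm_nondeg hF _))
    (W := LinearMap.range (φ ∘ₗ W.subtype)) le_top (by
      rintro _ ⟨a, rfl⟩ _ ⟨c, rfl⟩
      exact (hform a a.2 c).trans (hW a a.2 c c.2))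
  rw [LinearMap.finrank_range_of_inj hinj, finrank_top, Module.finrank_fin_fun, Finset.card_compl,
    Fintype.card_fin] at h
  have := T.card_le_univ
  rw [Fintype.card_fin] at this
  omega

end Diag

section Count

variable {F : Type*} [Field F] [Fintype F] {q : ℕ}

/-- The factors of the order of `GU`. -/
def guFactor (q i : ℕ) : ℕ := if Even i then q ^ (i + 1) + 1 else q ^ (i + 1) - 1

/-- The number of totally isotropic subspaces. -/
theorem count_ti (hF : Fintype.card F = q ^ 2) {n k : ℕ} (hk : 2 * k ≤ n) :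
    Nat.card {W : Submodule F (Fin n → F) // Unitary.IsTISubspace q k W} *
        ∏ i : Fin k, ((q ^ 2) ^ (k - i) - 1) = ∏ i ∈ Finset.Ico (n - 2 * k) n, guFactor q i := by
  have hq := Unitary.two_le_q hF
  have h1 := Unitary.card_GU_tiTuple hF hk
  rw [Unitary.card_tiTuple_eq hF, Unitary.card_GU hF, Unitary.card_GU hF] at h1
  have e1 : ∏ i : Fin k, ((q ^ 2) ^ k - (q ^ 2) ^ (i : ℕ)) =
      q ^ (k * (k - 1)) * ∏ i : Fin k, ((q ^ 2) ^ (k - i) - 1) := by
    have hh : ∀ i : Fin k, (q ^ 2) ^ k - (q ^ 2) ^ (i : ℕ) = q ^ (2 * (i : ℕ)) * ((q ^ 2) ^ (k - i) - 1) :=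
      fun i => by
        rw [Nat.mul_sub, mul_one, pow_mul, ← pow_add, show (i : ℕ) + (k - i) = k by omega]
    rw [Finset.prod_congr rfl fun i _ => hh i, Finset.prod_mul_distrib, Finset.prod_pow_eq_pow_sum,
      ← Finset.mul_sum, Fin.sum_univ_eq_sum_range (fun i => i) k, mul_comm 2, Finset.sum_range_id_mul_two]
  rw [e1, ← Finset.prod_range_mul_prod_Ico (fun i => if Even i then q ^ (i + 1) + 1 else q ^ (i + 1) - 1)
    (Nat.sub_le n (2 * k))] at h1
  have e2 : k * (2 * n - 3 * k) + k * (k - 1) + (n - 2 * k) * (n - 2 * k - 1) / 2 = n * (n - 1) / 2 := by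
    obtain ⟨d, rfl⟩ := Nat.exists_eq_add_of_le hk
    rcases k with _ | k
    · simp
    rw [show 2 * (2 * (k + 1) + d) - 3 * (k + 1) = k + 1 + 2 * d by omega, Nat.add_sub_cancel,
      Nat.add_sub_cancel_left, show 2 * (k + 1) + d - 1 = 2 * k + 1 + d by omega,
      show (2 * (k + 1) + d) * (2 * k + 1 + d) =
        2 * ((k + 1) * (k + 1 + 2 * d) + (k + 1) * k) + d * (d - 1) by
        rcases d with _ | d
        · simp only [Nat.zero_mul, Nat.add_zero]; ring
        · rw [Nat.add_sub_cancel]; ring,
      Nat.mul_add_div two_pos]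
  rw [← e2, pow_add, pow_add] at h1
  have hpos : 0 < ∏ i ∈ Finset.range (n - 2 * k), (if Even i then q ^ (i + 1) + 1 else q ^ (i + 1) - 1) :=
    Finset.prod_pos fun i _ => by
      split_ifs
      · omega
      · exact Nat.sub_pos_of_lt (Nat.one_lt_pow (Nat.succ_ne_zero i) (by omega))
  refine Nat.eq_of_mul_eq_mul_left (Nat.mul_pos (Nat.mul_pos (Nat.mul_pos (pow_pos (by omega : 0 < q) (k * (2 * n - 3 * k)))
    (pow_pos (by omega : 0 < q) (k * (k - 1)))) (pow_pos (by omega : 0 < q) ((n - 2 * k) * (n - 2 * k - 1) / 2)))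
    hpos) ?_
  unfold guFactor
  linear_combination -h1

theorem not_dvd_count {p : ℕ} [Fact p.Prime] [CharP F p] (hF : Fintype.card F = q ^ 2) {n k : ℕ} (hk : 2 * k ≤ n) :
    ¬ p ∣ Nat.card {W : Submodule F (Fin n → F) // Unitary.IsTISubspace q k W} := by
  intro h
  have h' := count_ti hF hk ▸ Dvd.dvd.mul_right h (∏ i : Fin k, ((q ^ 2) ^ (k - i) - 1))
  obtain ⟨i, -, hi⟩ := (Nat.Prime.prime (Fact.out : p.Prime)).exists_mem_finset_dvd h'
  have hpq : p ∣ q ^ (i + 1) := dvd_pow (dvd_q hF (F := F) (p := p)) (Nat.succ_ne_zero i)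
  have hq := Unitary.two_le_q hF
  rw [guFactor] at hi
  split_ifs at hi
  · exact (Fact.out : p.Prime).not_dvd_one ((Nat.dvd_add_right hpq).1 hi)
  · have := Nat.dvd_sub hpq hi
    rw [show q ^ (i + 1) - (q ^ (i + 1) - 1) = 1 by
      have := Nat.one_le_pow (i + 1) q (by omega); omega] at this
    exact (Fact.out : p.Prime).not_dvd_one this

theorem exists_ti_index {r : ℕ} [Fact r.Prime] (hF : Fintype.card F = q ^ 2) {n k : ℕ} (hk : 2 * k ≤ n)
    (h : r ∣ Nat.card {W : Submodule F (Fin n → F) // Unitary.IsTISubspace q k W}) :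
    ∃ l, n - 2 * k < l ∧ l ≤ n ∧ negQOrder r q ∣ l := by
  have hq := Unitary.two_le_q hF
  have h' := count_ti hF hk ▸ Dvd.dvd.mul_right h (∏ i : Fin k, ((q ^ 2) ^ (k - i) - 1))
  obtain ⟨i, hi, hid⟩ := (Nat.Prime.prime (Fact.out : r.Prime)).exists_mem_finset_dvd h'
  rw [Finset.mem_Ico] at hi
  refine ⟨i + 1, by omega, by omega, negQOrder_dvd_of_factor (by omega) ?_⟩
  rw [guFactor] at hid
  by_cases he : Even i
  · rw [if_pos he] at hid
    rwa [if_neg (by rw [Nat.even_add_one]; exact not_not.2 he)]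
  · rw [if_neg he] at hid
    rwa [if_pos (by rw [Nat.even_add_one]; exact he)]

end Count

end Cfsg.Agent.ElusiveU
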