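import Cfsg.Agent.Lib.ElusiveU.Geo
import Cfsg.Agent.Lib.Unitary.Count
import Cfsg.Agent.Lib.PrimeOrderElt.Count
import Cfsg.Agent.Lib.PrimeOrderElt.Criteria
/-
Isometries of prime order of hermitian spaces: invariant pieces.
* `negQOrder`          : `c`, the order of `-q` modulo `r`; `dvd_factor_iff`
* `adj_aeval`          : for `r ∣ q^b + 1`, `b` odd, the adjoint on `F[y]` is the power `q^b`
* `exists_nd_piece`    : pieces of dimension `c` in non-degenerate invariant subspaces without fixed vectors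
* `hasNd_of_cond`, `finrank_of_hasNd`
* `exists_gu_free`     : an element of order `r` without fixed vectors in dimension `c`
-/

set_option autoImplicit false
set_option linter.unusedSectionVars false
set_option linter.style.haveILetI false

namespace Cfsg.Agent.ElusiveU

open Module Polynomial
open Cfsg.Agent.Unitary (IsHerm Nondeg Orthonormal)
open Cfsg.Agent.PrimeOrderElt (Inv inv_apply inv_inf inv_sup fix mem_fix inv_fix exists_minimal_invariant
  exists_invariant_complement finrank_simple exists_dims orderOf_card_pos dvd_pow_sub_one_iff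
  finrank_sup_of_inf_eq_bot)

/-- `c`: the order of `-q` modulo `r`. -/
noncomputable def negQOrder (r q : ℕ) : ℕ := orderOf (-(q : ZMod r))

section Orders

variable {F : Type*} [Field F] [Fintype F] {q r : ℕ} [Fact r.Prime]

theorem q_ne_zero (hF : Fintype.card F = q ^ 2) (hr : (r : F) ≠ 0) : (q : ZMod r) ≠ 0 := by
  have h := PrimeOrderElt.natCast_ne_zero (F := F) hr
  rw [hF, Nat.cast_pow] at h
  exact fun h0 => h (by rw [h0, zero_pow two_ne_zero])

theorem negQOrder_pos (hF : Fintype.card F = q ^ 2) (hr : (r : F) ≠ 0) : 0 < negQOrder r q :=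
  (isOfFinOrder_iff_pow_eq_one.2 ⟨r - 1, Nat.sub_pos_of_lt (Fact.out : r.Prime).one_lt,
    ZMod.pow_card_sub_one_eq_one (neg_ne_zero.2 (q_ne_zero hF hr))⟩).orderOf_pos

/-- Either `c = b` odd with `r ∣ q^b + 1`, or `c = 2b`; here `b` is the order of `q²`. -/
theorem negQOrder_cases (hF : Fintype.card F = q ^ 2) (hr : (r : F) ≠ 0) :
    (negQOrder r q = orderOf (Fintype.card F : ZMod r) ∧ Odd (orderOf (Fintype.card F : ZMod r)) ∧
        r ∣ q ^ orderOf (Fintype.card F : ZMod r) + 1) ∨
      (negQOrder r q = 2 * orderOf (Fintype.card F : ZMod r) ∧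
        ¬ (negQOrder r q ∣ orderOf (Fintype.card F : ZMod r))) := by
  set b := orderOf (Fintype.card F : ZMod r) with hb
  have hbpos : 0 < b := orderOf_card_pos hr
  have hsq : (Fintype.card F : ZMod r) = (-(q : ZMod r)) ^ 2 := by rw [hF, Nat.cast_pow, neg_sq]
  have hcb : b ∣ negQOrder r q := by
    rw [hb, hsq]
    exact orderOf_dvd_iff_pow_eq_one.2 (by rw [← pow_mul, mul_comm, pow_mul, negQOrder, pow_orderOf_eq_one, one_pow])
  have hc2b : negQOrder r q ∣ 2 * b :=
    orderOf_dvd_iff_pow_eq_one.2 (by rw [pow_mul, ← hsq, hb, pow_orderOf_eq_one])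
  obtain ⟨k, hk⟩ := hcb
  rw [hk] at hc2b
  have hk2 : k ∣ 2 := Nat.dvd_of_mul_dvd_mul_left hbpos (by rwa [mul_comm b 2])
  rcases (Nat.dvd_prime Nat.prime_two).1 hk2 with rfl | rfl
  · rw [mul_one] at hk
    have h1 : (-(q : ZMod r)) ^ b = 1 := by rw [← hk, negQOrder, pow_orderOf_eq_one]
    have hodd : Odd b := by
      by_contra hev
      obtain ⟨j, hj⟩ := Nat.not_odd_iff_even.1 hev
      have h2 : (Fintype.card F : ZMod r) ^ j = 1 := by rw [hsq, ← pow_mul, two_mul, ← hj, h1]
      have := Nat.le_of_dvd (by omega) (hb ▸ orderOf_dvd_iff_pow_eq_one.2 h2 : b ∣ j)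
      omega
    refine .inl ⟨hk, hodd, ?_⟩
    rw [← ZMod.natCast_eq_zero_iff, Nat.cast_add, Nat.cast_pow, Nat.cast_one]
    rw [hodd.neg_pow] at h1
    linear_combination -h1
  · exact .inr ⟨by rw [hk, mul_comm], fun hd => by
      have := Nat.le_of_dvd hbpos hd
      omega⟩

/-- `r ∣ q^l - (-1)^l` only for multiples of `c`. -/
theorem negQOrder_dvd_of_factor (hq : 1 ≤ q) {l : ℕ}
    (h : r ∣ if Even l then q ^ l - 1 else q ^ l + 1) : negQOrder r q ∣ l := by
  refine orderOf_dvd_iff_pow_eq_one.2 ?_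
  rcases Nat.even_or_odd l with he | ho
  · rw [if_pos he, ← ZMod.natCast_eq_zero_iff, Nat.cast_sub (Nat.one_le_pow _ _ hq), Nat.cast_pow,
      Nat.cast_one, sub_eq_zero] at h
    rw [he.neg_pow, h]
  · rw [if_neg (Nat.not_even_iff_odd.2 ho), ← ZMod.natCast_eq_zero_iff, Nat.cast_add, Nat.cast_pow,
      Nat.cast_one] at h
    rw [ho.neg_pow]
    linear_combination -h

theorem dvd_normCount (hF : Fintype.card F = q ^ 2) (hr : (r : F) ≠ 0) {l : ℕ}
    (h : r ∣ Unitary.normCount l q (1 : F)) : negQOrder r q ∣ l := by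
  rw [Unitary.normOne_count hF] at h
  have hrq : ∀ k, ¬ r ∣ q ^ k := fun k hd => q_ne_zero hF hr
    ((ZMod.natCast_eq_zero_iff q r).2 ((Fact.out : r.Prime).dvd_of_dvd_pow hd))
  refine negQOrder_dvd_of_factor (by have := Unitary.two_le_q hF; omega) ?_
  split_ifs at h ⊢ with he
  · exact ((Fact.out : r.Prime).dvd_mul.1 h).resolve_left (hrq _)
  · exact ((Fact.out : r.Prime).dvd_mul.1 h).resolve_left (hrq _)

theorem dvd_card_GU (hF : Fintype.card F = q ^ 2) (hr : (r : F) ≠ 0) {n : ℕ}
    (h : r ∣ Nat.card (Cfsg.GU n F q)) : ∃ l, 1 ≤ l ∧ l ≤ n ∧ negQOrder r q ∣ l := by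
  rw [Nat.card_congr (Unitary.guEquivOrthonormal hF n), Unitary.card_orthonormal hF n n le_rfl] at h
  obtain ⟨j, hj, hd⟩ := (Nat.Prime.prime (Fact.out : r.Prime)).exists_mem_finset_dvd h
  rw [Finset.mem_range] at hj
  exact ⟨n - j, by omega, Nat.sub_le _ _, dvd_normCount hF hr hd⟩

end Orders

section Adjoint

variable {F : Type*} [Field F] [Fintype F] {q r : ℕ} {V : Type*} [AddCommGroup V] [Module F V]
  {h : V → V → F} {y : Module.End F V}

theorem aeval_mem {X : Submodule F V} (hX : Inv y X) (P : F[X]) : ∀ v ∈ X, aeval y P v ∈ X := by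
  have hp : ∀ (k : ℕ), ∀ v ∈ X, (y ^ k) v ∈ X := fun k v hv =>
    PrimeOrderElt.map_pow_le hX k ⟨v, hv, rfl⟩
  induction P using Polynomial.induction_on' with
  | add P Q hP hQ => intro v hv; simp only [map_add, LinearMap.add_apply]; exact X.add_mem (hP v hv) (hQ v hv)
  | monomial n c =>
    intro v hv
    simp only [aeval_monomial, Module.End.mul_apply, Module.algebraMap_end_apply]
    exact X.smul_mem _ (hp n v hv)

theorem aeval_comm (y : Module.End F V) (P Q : F[X]) (v : V) :
    aeval y P (aeval y Q v) = aeval y Q (aeval y P v) := by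
  rw [← Module.End.mul_apply, ← Module.End.mul_apply, ← map_mul, ← map_mul, mul_comm]

theorem pow_mod_eq (hyr : y ^ r = 1) {a b : ℕ} (h : a % r = b % r) : y ^ a = y ^ b := by
  rw [← Nat.div_add_mod a r, ← Nat.div_add_mod b r, pow_add, pow_mul, hyr, one_pow, pow_add, pow_mul, hyr,
    one_pow, h]

variable (hF : Fintype.card F = q ^ 2) (H : IsHerm q h)

include hF H in
/-- The adjoint on `F[y]` is the power `q^b`. -/
theorem adj_aeval (hy : IsIso h y) (hyr : y ^ r = 1) {b : ℕ} (hb : Odd b) (hrb : r ∣ q ^ b + 1) (P : F[X]) :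
    ∀ u v, h (aeval y P u) v = h u (aeval y (P ^ q ^ b) v) := by
  obtain ⟨p, e, hp, hchar, hqp, -⟩ := Unitary.exists_prime_pow hF
  haveI := Fact.mk hp
  induction P using Polynomial.induction_on' with
  | add P Q hP hQ =>
    intro u v
    rw [map_add, LinearMap.add_apply, H.add_left, hP, hQ, hqp, ← pow_mul, add_pow_char_pow, map_add,
      LinearMap.add_apply, H.add_right hF]
  | monomial n c =>
    intro u v
    rw [monomial_pow, aeval_monomial, aeval_monomial]
    simp only [Module.End.mul_apply, Module.algebraMap_end_apply]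
    rw [H.smul_left, H.smul_right, ← pow_mul, ← pow_succ]
    have hc : c ^ q ^ (b + 1) = c := by
      obtain ⟨j, hj⟩ := hb
      rw [show b + 1 = 2 * (j + 1) by omega, pow_mul, ← hF, FiniteField.pow_card_pow]
    rw [hc]
    congr 1
    have hyn : y ^ n * y ^ (n * q ^ b) = 1 := by
      obtain ⟨t, ht⟩ := hrb
      rw [← pow_add, show n + n * q ^ b = r * (n * t) by rw [← mul_left_comm, ← ht]; ring, pow_mul, hyr,
        one_pow]
    conv_rhs => rw [← (hy.pow n) u ((y ^ (n * q ^ b)) v), ← Module.End.mul_apply (f := y ^ n), hyn,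
      Module.End.one_apply]

include hF in
/-- `F[y]` is reduced. -/
theorem aeval_frob (hyr : y ^ r = 1) {b : ℕ} (hrb : r ∣ q ^ b + 1) (P : F[X]) :
    aeval y (P ^ q ^ (2 * b)) = aeval y P := by
  obtain ⟨p, e, hp, hchar, hqp, -⟩ := Unitary.exists_prime_pow hF
  haveI := Fact.mk hp
  induction P using Polynomial.induction_on' with
  | add P Q hP hQ =>
    rw [map_add, ← hP, ← hQ, hqp, ← pow_mul, add_pow_char_pow, map_add]
  | monomial n c =>
    rw [monomial_pow, aeval_monomial, aeval_monomial, pow_mul q 2, ← hF, FiniteField.pow_card_pow]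
    congr 1
    refine pow_mod_eq hyr ?_
    obtain ⟨t, ht⟩ := hrb
    have hq : Fintype.card F ^ b = (q ^ b) * (q ^ b) := by rw [hF, ← pow_mul, ← pow_add]; congr 1; ring
    have hq1 : 1 ≤ q ^ b := Nat.one_le_pow _ _ (by have := Unitary.two_le_q hF; omega)
    obtain ⟨a, ha⟩ := Nat.exists_eq_add_of_le hq1
    rw [hq]
    have : n * (q ^ b * q ^ b) = n + r * (n * t * a) := by
      rw [← mul_assoc r, ← mul_assoc r, mul_comm r n, mul_assoc n, ← ht, ha]; ring
    rw [this, Nat.add_mul_mod_self_left]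

variable [FiniteDimensional F V]

include hF H in
/-- For `r ∣ q^b + 1`: a non-degenerate invariant subspace contains one which is simple. -/
theorem exists_simple_nd (hnd : Nondeg h) (hy : IsIso h y) (hyr : y ^ r = 1) {b : ℕ} (hb : Odd b)
    (hrb : r ∣ q ^ b + 1) {X : Submodule F V} (hXi : Inv y X) (hX : NdOn h X) (hX0 : X ≠ ⊥) :
    ∃ Z ≤ X, Inv y Z ∧ NdOn h Z ∧ Z ≠ ⊥ ∧ ∀ U : Submodule F V, Inv y U → U ≤ Z → U = ⊥ ∨ U = Z := by
  obtain ⟨Z, ⟨hZX, hZi, hZ, hZ0⟩, hmin⟩ := (wellFounded_lt (α := Submodule F V)).has_min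
    {Z | Z ≤ X ∧ Inv y Z ∧ NdOn h Z ∧ Z ≠ ⊥} ⟨X, le_rfl, hXi, hX, hX0⟩
  have hQ2 : 2 ≤ q ^ (2 * b) := by
    have := Unitary.two_le_q hF
    exact this.trans (Nat.le_self_pow (by rcases hb with ⟨j, rfl⟩; omega) q)
  -- every polynomial in `y` is zero or injective on `Z`
  have hdich : ∀ P : F[X], (∀ v ∈ Z, aeval y P v = 0) ∨ (∀ v ∈ Z, aeval y P v = 0 → v = 0) := by
    intro P
    set a := aeval y P with ha
    set K := Z ⊓ LinearMap.ker a with hK
    have hKi : Inv y K := by
      rintro _ ⟨v, hv, rfl⟩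
      refine ⟨inv_apply hZi hv.1, LinearMap.mem_ker.2 ?_⟩
      have := aeval_comm y P Polynomial.X v
      rw [aeval_X] at this
      rw [ha, this, LinearMap.mem_ker.1 hv.2, map_zero]
    have hkerQ : ∀ u ∈ LinearMap.ker a, aeval y (P ^ q ^ b) u = 0 := fun u hu => by
      obtain ⟨k, hk⟩ := Nat.exists_eq_add_of_le (Nat.one_le_pow b q (by have := Unitary.two_le_q hF; omega))
      rw [hk, add_comm, pow_succ, map_mul, Module.End.mul_apply, LinearMap.mem_ker.1 hu, map_zero]
    have hsq : ∀ v, a (a v) = 0 → a v = 0 := fun v hv => by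
      obtain ⟨k, hk⟩ := Nat.exists_eq_add_of_le hQ2
      rw [ha, ← aeval_frob hF hyr hrb P, hk, add_comm, pow_add, map_mul, pow_two, map_mul,
        Module.End.mul_apply, Module.End.mul_apply, hv, map_zero]
    -- the image lies in the orthogonal of the kernel
    have him : ∀ v ∈ Z, a v ∈ Z ⊓ orth H K := fun v hv =>
      ⟨aeval_mem hZi P v hv, fun u hu => by
        rw [ha, adj_aeval hF H hy hyr hb hrb, hkerQ u hu.2, H.zero_right hF]⟩
    have hKsup : K ⊔ Z.map a = Z := by
      refine Submodule.eq_of_le_of_finrank_eq (sup_le inf_le_left ?_) ?_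
      · rintro _ ⟨v, hv, rfl⟩; exact (him v hv).1
      · rw [finrank_sup_of_inf_eq_bot (le_bot_iff.1 ?_)]
        · have hrn := LinearMap.finrank_range_add_finrank_ker (a ∘ₗ Z.subtype)
          rw [LinearMap.range_comp, Submodule.range_subtype] at hrn
          have hker : LinearMap.ker (a ∘ₗ Z.subtype) = K.comap Z.subtype := by
            ext v; simp [hK]
          rw [hker, (Submodule.comapSubtypeEquivOfLe (show K ≤ Z from inf_le_left)).finrank_eq] at hrn
          have e1 : finrank F ↥(Z ⊓ LinearMap.ker a) = finrank F ↥K := rfl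
          omega
        · rintro x ⟨⟨-, hx⟩, v, hv, rfl⟩
          exact (Submodule.mem_bot F).2 (hsq v (LinearMap.mem_ker.1 hx))
    have hKn : NdOn h K := fun x hx hx0 => hZ x hx.1 fun z hz => by
      rw [← hKsup] at hz
      obtain ⟨u, hu, w, ⟨v, hv, rfl⟩, rfl⟩ := Submodule.mem_sup.1 hz
      rw [H.add_right hF, hx0 u hu, mem_orth_symm hF H (him v hv).2 hx, add_zero]
    by_cases hK0 : K = ⊥
    · exact .inr fun v hv hv0 => by
        have hvK : v ∈ K := ⟨hv, LinearMap.mem_ker.2 hv0⟩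
        rwa [hK0, Submodule.mem_bot] at hvK
    · refine .inl fun v hv => ?_
      have hKZ : K = Z := eq_of_le_of_not_lt inf_le_left (hmin K ⟨inf_le_left.trans hZX, hKi, hKn, hK0⟩)
      rw [← hKZ] at hv
      exact LinearMap.mem_ker.1 hv.2
  -- the orbit of an anisotropic vector
  obtain ⟨v, hv, hvv⟩ := exists_aniso hF H hZ hZ0
  let C : Submodule F V := LinearMap.range ((LinearMap.applyₗ v) ∘ₗ (aeval y).toLinearMap)
  have hmemC : ∀ P : F[X], aeval y P v ∈ C := fun P => ⟨P, rfl⟩
  have hCZ : C ≤ Z := by rintro _ ⟨P, rfl⟩; exact aeval_mem hZi P v hv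
  have hvC : v ∈ C := by simpa using hmemC 1
  have hCi : Inv y C := by
    rintro _ ⟨_, ⟨P, rfl⟩, rfl⟩
    exact ⟨Polynomial.X * P, by simp⟩
  have hCsimple : ∀ U : Submodule F V, Inv y U → U ≤ C → U = ⊥ ∨ U = C := by
    intro U hU hUC
    by_cases hU0 : U = ⊥
    · exact .inl hU0
    refine .inr (le_antisymm hUC ?_)
    obtain ⟨w, hw, hw0⟩ := (Submodule.ne_bot_iff U).1 hU0
    obtain ⟨P, hP⟩ := hUC hw
    have hinj : ∀ u ∈ Z, aeval y P u = 0 → u = 0 := by
      refine (hdich P).resolve_left fun hz => hw0 ?_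
      rw [← hP]; exact hz v hv
    let g : C →ₗ[F] C := (aeval y P).restrict fun u hu => by
      obtain ⟨R, rfl⟩ := hu
      exact ⟨P * R, by simp⟩
    have hgi : Function.Injective g := by
      rw [injective_iff_map_eq_zero]
      intro u hu
      exact Subtype.ext (hinj u (hCZ u.2) (congrArg Subtype.val hu))
    obtain ⟨u, hu⟩ := (LinearMap.injective_iff_surjective.1 hgi) ⟨v, hvC⟩
    obtain ⟨R, hR⟩ := u.2
    have hveq : v = aeval y R w := by
      rw [← hP]
      show v = aeval y R (aeval y P v)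
      rw [aeval_comm]
      have := congrArg Subtype.val hu
      change aeval y P (u : V) = v at this
      conv_lhs => rw [← this]
      show aeval y P (u : V) = _
      rw [← hR]; rfl
    rintro _ ⟨S, rfl⟩
    show aeval y S v ∈ U
    rw [hveq]
    exact aeval_mem hU S _ (aeval_mem hU R w hw)
  have hCn : NdOn h C := by
    intro x hx hx0
    have hrad : C ⊓ orth H C = ⊥ := by
      refine (hCsimple _ (inv_inf hCi (inv_orth H hnd hy hCi)) inf_le_left).resolve_right fun e => hvv ?_
      rw [← e] at hvC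
      exact hvC.2 v hvC.1
    have hxm : x ∈ C ⊓ orth H C := ⟨hx, hx0⟩
    rwa [hrad, Submodule.mem_bot] at hxm
  exact ⟨C, hCZ.trans hZX, hCi, hCn, (Submodule.ne_bot_iff C).2 ⟨v, hvC, fun e => hvv (by rw [e, H.zero_left])⟩,
    hCsimple⟩

end Adjoint

section Pieces

variable {F : Type*} [Field F] [Fintype F] {q r : ℕ} [Fact r.Prime] {V : Type*} [AddCommGroup V] [Module F V]
  [FiniteDimensional F V] {h : V → V → F} {y : Module.End F V}
  (hF : Fintype.card F = q ^ 2) (H : IsHerm q h)

/-- The fixed space meets `range (y - 1)` trivially. -/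
theorem fix_inf_range (hr : (r : F) ≠ 0) (hyr : y ^ r = 1) : fix y ⊓ LinearMap.range (y - 1) = ⊥ := by
  rw [eq_bot_iff]
  rintro v ⟨hv, x, rfl⟩
  rw [Submodule.mem_bot]
  set w := (y - 1) x with hw
  have hyx : y x = x + w := by rw [hw]; simp
  have hj : ∀ j : ℕ, (y ^ j) x = x + (j : F) • w := by
    intro j
    induction j with
    | zero => simp
    | succ j ih =>
      rw [pow_succ', Module.End.mul_apply, ih, map_add, map_smul, mem_fix.1 hv, hyx, Nat.cast_succ,
        add_smul, one_smul]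
      abel
  have := hj r
  rw [hyr, Module.End.one_apply, left_eq_add] at this
  exact (smul_eq_zero.1 this).resolve_left hr

include hF H in
theorem range_le_orth_fix (hy : IsIso h y) : LinearMap.range (y - 1) ≤ orth H (fix y) := by
  rintro _ ⟨x, rfl⟩ s hs
  have := hy x s
  rw [mem_fix.1 hs] at this
  rw [LinearMap.sub_apply, Module.End.one_apply, H.sub_left, this, sub_self]

/-- Splitting an invariant subspace along the fixed space. -/
theorem split_fix (hr : (r : F) ≠ 0) (hyr : y ^ r = 1) {W : Submodule F V} (hW : Inv y W) :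
    (W ⊓ fix y) ⊔ W.map (y - 1) = W ∧ W.map (y - 1) ⊓ fix y = ⊥ ∧ Inv y (W.map (y - 1)) ∧
      W.map (y - 1) ≤ W ∧ finrank F ↥(W ⊓ fix y) + finrank F ↥(W.map (y - 1)) = finrank F W := by
  have hYW : W.map (y - 1) ≤ W := by
    rintro _ ⟨v, hv, rfl⟩
    simpa using W.sub_mem (inv_apply hW hv) hv
  have hYf : W.map (y - 1) ⊓ fix y = ⊥ := le_bot_iff.1
    ((inf_le_inf LinearMap.map_le_range le_rfl).trans (by rw [inf_comm, fix_inf_range hr hyr]))
  have hker : LinearMap.ker ((y - 1) ∘ₗ W.subtype) = (W ⊓ fix y).comap W.subtype := by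
    ext v; simp [sub_eq_zero, mem_fix]
  have hrn := LinearMap.finrank_range_add_finrank_ker ((y - 1) ∘ₗ W.subtype)
  rw [LinearMap.range_comp, Submodule.range_subtype, hker,
    (Submodule.comapSubtypeEquivOfLe inf_le_left).finrank_eq] at hrn
  refine ⟨Submodule.eq_of_le_of_finrank_eq (sup_le inf_le_left hYW) ?_, hYf, ?_, hYW, by omega⟩
  · rw [finrank_sup_of_inf_eq_bot (le_bot_iff.1 (by
      rw [← hYf, inf_comm (W.map (y - 1))]; exact inf_le_inf_right _ inf_le_right))]
    omega
  · rintro _ ⟨_, ⟨v, hv, rfl⟩, rfl⟩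
    exact ⟨y v, inv_apply hW hv, by simp⟩

include hF H in
theorem ndOn_fix (hr : (r : F) ≠ 0) (hnd : Nondeg h) (hy : IsIso h y) (hyr : y ^ r = 1) : NdOn h (fix y) := by
  intro x hx hx0
  refine hnd x fun z => ?_
  have hz : z ∈ (⊤ ⊓ fix y) ⊔ (⊤ : Submodule F V).map (y - 1) := by
    rw [(split_fix hr hyr (W := ⊤) le_top).1]; trivial
  obtain ⟨a, ha, b, ⟨v, -, rfl⟩, rfl⟩ := Submodule.mem_sup.1 hz
  rw [H.add_right hF, hx0 a ha.2, mem_orth_symm hF H (range_le_orth_fix hF H hy ⟨v, rfl⟩) hx, add_zero]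

include hF H in
theorem ndOn_map (hr : (r : F) ≠ 0) (hy : IsIso h y) (hyr : y ^ r = 1) {W : Submodule F V} (hW : Inv y W)
    (hWn : NdOn h W) : NdOn h (W.map (y - 1)) := by
  intro x hx hx0
  obtain ⟨hsup, -, -, hle, -⟩ := split_fix hr hyr hW
  refine hWn x (hle hx) fun z hz => ?_
  rw [← hsup] at hz
  obtain ⟨a, ha, b, hb, rfl⟩ := Submodule.mem_sup.1 hz
  rw [H.add_right hF, hx0 b hb, range_le_orth_fix hF H hy (LinearMap.map_le_range hx) a ha.2, zero_add]

include hF H in
/-- An invariant totally isotropic subspace has a non-degenerate double. -/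
theorem exists_double (hr : (r : F) ≠ 0) (hnd : Nondeg h) (hy : IsIso h y) (hyr : y ^ r = 1)
    {X S : Submodule F V} (hXi : Inv y X) (hX : NdOn h X) (hXf : X ⊓ fix y = ⊥) (hSi : Inv y S)
    (hSX : S ≤ X) (hS : Iso0 h S) (hS0 : S ≠ ⊥)
    (hSd : finrank F S = orderOf (Fintype.card F : ZMod r)) :
    ∃ Y ≤ X, Inv y Y ∧ NdOn h Y ∧ finrank F Y = 2 * orderOf (Fintype.card F : ZMod r) := by
  classical
  set b := orderOf (Fintype.card F : ZMod r) with hb
  set T := X ⊓ orth H S with hT
  obtain ⟨C, hCi, hCX, hdis, hsup⟩ := exists_invariant_complement hr one_ne_zero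
    (by rw [one_smul, hyr]) hXi (inv_inf hXi (inv_orth H hnd hy hSi)) (inf_le_left : T ≤ X)
  -- the codimension of `T` is at most `dim S`
  let bs := Module.finBasis F S
  let φ : X →ₗ[F] (Fin (finrank F S) → F) :=
    { toFun := fun v j => h (v : V) (bs j : V)
      map_add' := fun u v => funext fun j => H.add_left _ _ _
      map_smul' := fun c v => funext fun j => H.smul_left _ _ _ }
  have hker : LinearMap.ker φ = T.comap X.subtype := by
    ext v
    simp only [LinearMap.mem_ker, Submodule.mem_comap, Submodule.coe_subtype, hT, Submodule.mem_inf]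
    constructor
    · intro hv
      refine ⟨v.2, fun s hs => ?_⟩
      have hs' : s = ∑ j, bs.repr ⟨s, hs⟩ j • (bs j : V) := by
        have := congrArg (Subtype.val : S → V) (bs.sum_repr ⟨s, hs⟩)
        simp only [Submodule.coe_sum, Submodule.coe_smul] at this
        exact this.symm
      rw [hs', H.sum_right hF, Finset.sum_eq_zero]
      intro j _
      rw [H.smul_right, show h (v : V) (bs j : V) = 0 from congrFun hv j, mul_zero]
    · exact fun hv => funext fun j => hv.2 _ (bs j).2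
  have hTd : finrank F X ≤ finrank F T + finrank F S := by
    have h1 := LinearMap.finrank_range_add_finrank_ker φ
    rw [hker, (Submodule.comapSubtypeEquivOfLe (show T ≤ X from inf_le_left)).finrank_eq] at h1
    have h2 := Submodule.finrank_le (LinearMap.range φ)
    rw [Module.finrank_fin_fun] at h2
    have e1 : finrank F ↥(X ⊓ orth H S) = finrank F ↥T := rfl
    omega
  have hd := finrank_sup_of_inf_eq_bot hdis
  rw [hsup] at hd
  have hCd : finrank F C = b := by
    obtain ⟨s, hs, -⟩ := exists_dims hr hyr hCi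
    rw [show C ⊓ fix y = ⊥ from le_bot_iff.1 ((inf_le_inf_right _ hCX).trans hXf.le), finrank_bot, zero_add,
      ← hb] at hs
    rcases Nat.eq_zero_or_pos s with rfl | hs0
    · exfalso
      rw [Submodule.finrank_eq_zero.1 (hs.trans (zero_mul b)), sup_bot_eq] at hsup
      obtain ⟨w, hw, hw0⟩ := (Submodule.ne_bot_iff S).1 hS0
      refine hw0 (hX w (hSX hw) fun z hz => ?_)
      rw [← hsup] at hz
      exact mem_orth_symm hF H hz.2 hw
    · have := Nat.le_mul_of_pos_left b hs0
      have e1 : finrank F ↥(X ⊓ orth H S) = finrank F ↥T := rfl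
      omega
  have hST : S ≤ T := le_inf hSX fun s hs t ht => hS s hs t ht
  have hSC : S ⊓ C = ⊥ := le_bot_iff.1 ((inf_le_inf_right C hST).trans hdis.le)
  refine ⟨S ⊔ C, sup_le hSX hCX, inv_sup hSi hCi, fun v hv hv0 => ?_,
    by rw [finrank_sup_of_inf_eq_bot hSC, hSd, hCd, two_mul]⟩
  obtain ⟨s, hs, s', hs', rfl⟩ := Submodule.mem_sup.1 hv
  have hs'0 : s' = 0 := by
    have hmem : s' ∈ T ⊓ C := by
      refine ⟨⟨hCX hs', fun t ht => ?_⟩, hs'⟩
      have := hv0 t (Submodule.mem_sup_left ht)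
      rwa [H.add_left, hS s hs t ht, zero_add] at this
    rwa [hdis, Submodule.mem_bot] at hmem
  subst hs'0
  rw [add_zero] at hv0 ⊢
  refine hX s (hSX hs) fun z hz => ?_
  rw [← hsup] at hz
  obtain ⟨t, ht, t', ht', rfl⟩ := Submodule.mem_sup.1 hz
  rw [H.add_right hF, hv0 t' (Submodule.mem_sup_right ht'), mem_orth_symm hF H ht.2 hs, add_zero]

include hF H in
/-- When `c = 2b` a simple subspace is totally isotropic. -/
theorem iso_of_simple (hr : (r : F) ≠ 0) (hnd : Nondeg h) (hy : IsIso h y) (hyr : y ^ r = 1)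
    {S : Submodule F V} (hSi : Inv y S) (hS0 : S ≠ ⊥)
    (hmin : ∀ U : Submodule F V, Inv y U → U ≤ S → U = ⊥ ∨ U = S) (hSf : ¬ S ≤ fix y)
    (hc : negQOrder r q = 2 * orderOf (Fintype.card F : ZMod r)) : Iso0 h S := by
  have hSd := finrank_simple hr hyr hSi hS0 hmin hSf
  rcases hmin _ (inv_inf hSi (inv_orth H hnd hy hSi)) inf_le_left with hrad | hrad
  swap
  · intro s hs t ht
    rw [← hrad] at hs
    exact hs.2 t ht
  exfalso
  have hSn : NdOn h S := fun x hx hx0 => by
    have hxm : x ∈ S ⊓ orth H S := ⟨hx, hx0⟩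
    rwa [hrad, Submodule.mem_bot] at hxm
  obtain ⟨L, hL⟩ := exists_coords hF H hSn
  set g : Module.End F S := y.restrict fun v hv => inv_apply hSi hv with hg
  set K : Module.End F (Fin (finrank F S) → F) := L.symm.toLinearMap ∘ₗ g ∘ₗ L.toLinearMap with hK
  have hKv : ∀ v, L (K v) = g (L v) := fun v => L.apply_symm_apply _
  have hM : Unitary.IsUnitary q (LinearMap.toMatrix' K) := fun u v => by
    rw [LinearMap.toMatrix'_mulVec, LinearMap.toMatrix'_mulVec, ← hL, ← hL, hKv, hKv]
    exact hy _ _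
  set G := Unitary.guOfUnitary hF _ hM
  have hpow : ∀ (k : ℕ) v, (L (((Matrix.toLin' (LinearMap.toMatrix' K)) ^ k) v) : V) = (y ^ k) (L v) := by
    intro k
    induction k with
    | zero => intro v; rfl
    | succ k ih =>
      intro v
      rw [pow_succ', pow_succ', Module.End.mul_apply, Module.End.mul_apply, Matrix.toLin'_toMatrix', hKv]
      rw [Matrix.toLin'_toMatrix'] at ih
      rw [← ih]; rfl
  have hGr : G ^ r = 1 := by
    refine Subtype.ext (Units.ext ?_)
    rw [Subgroup.coe_pow, Units.val_pow_eq_pow_val, Unitary.guOfUnitary_val]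
    refine (Matrix.toLinAlgEquiv' (R := F)).injective ?_
    rw [map_pow, OneMemClass.coe_one, Units.val_one, map_one]
    refine LinearMap.ext fun v => L.injective (Subtype.ext ?_)
    rw [show Matrix.toLinAlgEquiv' (LinearMap.toMatrix' K) = Matrix.toLin' (LinearMap.toMatrix' K) from rfl,
      hpow, hyr]
    rfl
  have hG1 : G ≠ 1 := fun e => hSf fun v hv => by
    have e1 : (LinearMap.toMatrix' K) = 1 := congrArg (fun g : Cfsg.GU (finrank F S) F q =>
      ((g : Matrix.GeneralLinearGroup (Fin (finrank F S)) F) : Matrix (Fin (finrank F S)) (Fin (finrank F S)) F)) e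
    have h1 := hpow 1 (L.symm ⟨v, hv⟩)
    rw [pow_one, pow_one, e1, Matrix.toLin'_one, LinearMap.id_apply, L.apply_symm_apply] at h1
    exact mem_fix.2 h1.symm
  obtain ⟨l, hl1, hl2, hl⟩ := dvd_card_GU hF hr (n := finrank F S)
    (by rw [← orderOf_eq_prime hGr hG1]; exact orderOf_dvd_natCard G)
  rw [hSd] at hl2
  have := Nat.le_of_dvd hl1 hl
  have := PrimeOrderElt.orderOf_card_pos (F := F) hr
  omega

include hF H in
/-- A piece of dimension `c`. -/
theorem exists_nd_piece (hr : (r : F) ≠ 0) (hnd : Nondeg h) (hy : IsIso h y) (hyr : y ^ r = 1)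
    (X : Submodule F V) (hXi : Inv y X) (hX : NdOn h X) (hX0 : X ≠ ⊥) (hXf : X ⊓ fix y = ⊥) :
    ∃ Y ≤ X, Inv y Y ∧ NdOn h Y ∧ finrank F Y = negQOrder r q := by
  have hnf : ∀ {U : Submodule F V}, U ≤ X → U ≠ ⊥ → ¬ U ≤ fix y := fun hU hU0 hle =>
    hU0 (le_bot_iff.1 ((le_inf hU hle).trans hXf.le))
  rcases negQOrder_cases hF hr with ⟨hc, hodd, hrb⟩ | ⟨hc, -⟩
  · obtain ⟨Z, hZX, hZi, hZ, hZ0, hmin⟩ := exists_simple_nd hF H hnd hy hyr hodd hrb hXi hX hX0
    exact ⟨Z, hZX, hZi, hZ, (finrank_simple hr hyr hZi hZ0 hmin (hnf hZX hZ0)).trans hc.symm⟩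
  · obtain ⟨S, hSX, hSi, hS0, hmin⟩ := exists_minimal_invariant y hXi hX0
    have hSd := finrank_simple hr hyr hSi hS0 hmin (hnf hSX hS0)
    rw [hc]
    exact exists_double hF H hr hnd hy hyr hXi hX hXf hSi hSX
      (iso_of_simple hF H hr hnd hy hyr hSi hS0 hmin (hnf hSX hS0) hc) hS0 hSd

include hF H in
theorem exists_range_pieces (hr : (r : F) ≠ 0) (hnd : Nondeg h) (hy : IsIso h y) (hyr : y ^ r = 1)
    (X : Submodule F V) (hXi : Inv y X) (hX : NdOn h X) (hXf : X ⊓ fix y = ⊥) :
    ∃ N, finrank F X = N * negQOrder r q ∧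
      ∀ s ≤ N, ∃ W ≤ X, Inv y W ∧ NdOn h W ∧ finrank F W = s * negQOrder r q :=
  exists_multiples hF H hnd hy (negQOrder_pos hF hr) (fun X => X ⊓ fix y = ⊥)
    (fun _ Y hU hY => le_bot_iff.1 ((inf_le_inf_right _ hY).trans hU.le))
    (fun U hUf hUi hU hU0 => exists_nd_piece hF H hr hnd hy hyr U hUi hU hU0 hUf) X hXf hXi hX

include hF H in
/-- The sufficient condition. -/
theorem hasNd_of_cond (hr : (r : F) ≠ 0) (hnd : Nondeg h) (hy : IsIso h y) (hyr : y ^ r = 1) {n m : ℕ}
    (hn : finrank F V = n) (hmn : m ≤ n) (hmod : m % negQOrder r q ≤ n % negQOrder r q) : HasNd h y m := by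
  classical
  obtain ⟨-, hTf, hTi, -, hTd⟩ := split_fix hr hyr (W := (⊤ : Submodule F V)) le_top
  obtain ⟨N, hN, hNW⟩ := exists_range_pieces hF H hr hnd hy hyr _ hTi
    (ndOn_map hF H hr hy hyr le_top (ndOn_top hnd)) hTf
  rw [top_inf_eq, finrank_top, hN, hn] at hTd
  obtain ⟨K, hK, hKW⟩ := exists_multiples hF H hnd hy one_pos (fun X => X ≤ fix y)
    (fun U Y hU hY => hY.trans hU) (fun U hUf hUi hU hU0 => by
      obtain ⟨v, hv, hvv⟩ := exists_aniso hF H hU hU0
      have hv0 : v ≠ 0 := fun e => hvv (by rw [e, H.zero_left])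
      refine ⟨Submodule.span F {v}, (Submodule.span_singleton_le_iff_mem v U).2 hv, ?_, fun x hx hx0 => ?_,
        finrank_span_singleton hv0⟩
      · rintro _ ⟨x, hx, rfl⟩
        obtain ⟨a, rfl⟩ := Submodule.mem_span_singleton.1 hx
        rw [map_smul, mem_fix.1 (hUf hv)]
        exact hx
      · obtain ⟨a, rfl⟩ := Submodule.mem_span_singleton.1 hx
        have := hx0 v (Submodule.mem_span_singleton_self v)
        rw [H.smul_left, mul_eq_zero] at this
        rw [this.resolve_right hvv, zero_smul])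
    (fix y) le_rfl (inv_fix y) (ndOn_fix hF H hr hnd hy hyr)
  rw [mul_one] at hK
  rw [hK] at hTd
  set c := negQOrder r q
  set s := min (m / c) N with hs
  have hsm : s * c ≤ m := (Nat.mul_le_mul_right c (min_le_left _ _)).trans (Nat.div_mul_le_self m c)
  have hrest : m - s * c ≤ K := by
    rcases min_choice (m / c) N with hmin | hmin
    · rw [← hs] at hmin
      have h1 : m - s * c = m % c := by
        have := Nat.div_add_mod m c
        rw [hmin, mul_comm]; omega
      have h2 : n % c = K % c := by rw [← hTd, Nat.add_mul_mod_self_right]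
      have := Nat.mod_le K c
      omega
    · rw [← hs] at hmin
      rw [hmin] at hsm ⊢
      omega
  obtain ⟨U, hU, hUi, hUn, hUd⟩ := hKW (m - s * c) hrest
  obtain ⟨W, hW, hWi, hWn, hWd⟩ := hNW s (min_le_right _ _)
  have ho : W ≤ orth H U := (hW.trans LinearMap.map_le_range).trans
    ((range_le_orth_fix hF H hy).trans fun v hv t ht => hv t (hU ht))
  exact ⟨U ⊔ W, by rw [(hUn.sup hF H hWn ho).2, hUd, hWd]; omega, (hUn.sup hF H hWn ho).1, inv_sup hUi hWi⟩

include hF H in
/-- The shape of the dimension of a non-degenerate invariant subspace. -/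
theorem finrank_of_hasNd (hr : (r : F) ≠ 0) (hnd : Nondeg h) (hy : IsIso h y) (hyr : y ^ r = 1) {m : ℕ}
    (hm : HasNd h y m) : ∃ j s, m = j + s * negQOrder r q ∧ j ≤ finrank F ↥(fix y) := by
  obtain ⟨W, rfl, hW, hWi⟩ := hm
  obtain ⟨-, hYf, hYi, -, hYd⟩ := split_fix hr hyr hWi
  obtain ⟨N, hN, -⟩ := exists_range_pieces hF H hr hnd hy hyr _ hYi (ndOn_map hF H hr hy hyr hWi hW) hYf
  exact ⟨finrank F ↥(W ⊓ fix y), N, by omega, Submodule.finrank_mono inf_le_right⟩

end Pieces

section Free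

variable {F : Type*} [Field F] [Fintype F] {q r : ℕ} [Fact r.Prime]

/-- An element of order `r` without fixed vectors in dimension `c`. -/
theorem exists_gu_free (hF : Fintype.card F = q ^ 2) (hr : (r : F) ≠ 0) :
    ∃ g : Module.End F (Fin (negQOrder r q) → F),
      IsIso (Cfsg.hermForm (negQOrder r q) F q) g ∧ g ^ r = 1 ∧ fix g = ⊥ := by
  set c := negQOrder r q with hc
  have hcpos := negQOrder_pos hF hr
  have hdvd : r ∣ Nat.card (Cfsg.GU c F q) := by
    rw [Nat.card_congr (Unitary.guEquivOrthonormal hF c), Unitary.card_orthonormal hF c c le_rfl]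
    refine dvd_trans ?_ (Finset.dvd_prod_of_mem _ (Finset.mem_range.2 (show 0 < c by omega)))
    rw [Nat.sub_zero, Unitary.normOne_count hF]
    have h1 : (-(q : ZMod r)) ^ c = 1 := by rw [hc, negQOrder, pow_orderOf_eq_one]
    have hq1 : 1 ≤ q ^ c := Nat.one_le_pow _ _ (by have := Unitary.two_le_q hF; omega)
    split_ifs with he <;> refine Dvd.dvd.mul_left ?_ _ <;> rw [← ZMod.natCast_eq_zero_iff]
    · rw [he.neg_pow] at h1
      rw [Nat.cast_sub hq1, Nat.cast_pow, Nat.cast_one, h1, sub_self]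
    · rw [(Nat.not_even_iff_odd.1 he).neg_pow] at h1
      rw [Nat.cast_add, Nat.cast_pow, Nat.cast_one]
      linear_combination -h1
  obtain ⟨G, hG⟩ := exists_prime_orderOf_dvd_card' r hdvd
  set M : Matrix (Fin c) (Fin c) F := ((G : Matrix.GeneralLinearGroup (Fin c) F) : Matrix (Fin c) (Fin c) F)
  set g : Module.End F (Fin c → F) := Matrix.toLinAlgEquiv' M with hg
  have hgI : IsIso (Cfsg.hermForm c F q) g := fun u v => Unitary.GU_apply G u v
  have hgr : g ^ r = 1 := by
    rw [hg, ← map_pow]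
    have : ((G ^ r : Cfsg.GU c F q) : Matrix.GeneralLinearGroup (Fin c) F) = 1 := by
      rw [← hG, pow_orderOf_eq_one, OneMemClass.coe_one]
    have h2 := congrArg (fun u : Matrix.GeneralLinearGroup (Fin c) F => (u : Matrix (Fin c) (Fin c) F)) this
    simp only [Subgroup.coe_pow, Units.val_pow_eq_pow_val, Units.val_one] at h2
    rw [h2, map_one]
  refine ⟨g, hgI, hgr, ?_⟩
  have hnd := Unitary.hermForm_nondeg hF c
  have H := Unitary.hermForm_isHerm hF c
  obtain ⟨-, hTf, hTi, -, hTd⟩ := split_fix hr hgr (W := (⊤ : Submodule F (Fin c → F))) le_top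
  obtain ⟨N, hN, -⟩ := exists_range_pieces hF H hr hnd hgI hgr _ hTi
    (ndOn_map hF H hr hgI hgr le_top (ndOn_top hnd)) hTf
  rw [top_inf_eq, finrank_top, Module.finrank_fin_fun, hN] at hTd
  rcases Nat.eq_zero_or_pos N with rfl | hN0
  · exfalso
    rw [zero_mul, add_zero] at hTd
    have htop : fix g = ⊤ := Submodule.eq_top_of_finrank_eq (by rw [hTd, Module.finrank_fin_fun])
    have hG1 : G = 1 := by
      refine Subtype.ext (Units.ext ((Matrix.toLinAlgEquiv' (R := F)).injective ?_))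
      rw [OneMemClass.coe_one, Units.val_one, map_one]
      refine LinearMap.ext fun v => ?_
      have hv : v ∈ fix g := by rw [htop]; trivial
      exact mem_fix.1 hv
    rw [hG1, orderOf_one] at hG
    exact (Fact.out : r.Prime).one_lt.ne hG
  · have := Nat.le_mul_of_pos_left c hN0
    simp only [← hc] at *
    exact Submodule.finrank_eq_zero.1 (by omega)

end Free

end Cfsg.Agent.ElusiveU
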